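import Mathlib

/-! The four-dimensional unitary space over the field with four elements as eight bit codes: forms,
transvections, the totally isotropic plane of flat vectors and its pointwise stabiliser. -/

set_option autoImplicit false
set_option Elab.async false
set_option maxRecDepth 100000

namespace CfsgLib.ThreeTrans.UCent

/-- A vector: four coordinates `a + b ω`, two bits each. -/
@[ext] structure W where
  /-- The code. -/
  code : Fin 256
deriving DecidableEq

namespace W

/-- The vector of a code. -/
def mk' (n : ℕ) : W := ⟨⟨n % 256, Nat.mod_lt _ (by norm_num)⟩⟩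

theorem mk'_code {n : ℕ} (h : n < 256) : (mk' n).code.val = n := Nat.mod_eq_of_lt h

theorem mk'_val (x : W) : mk' x.code.val = x := W.ext (Fin.ext (Nat.mod_eq_of_lt x.code.2))

instance : Add W := ⟨fun x y => mk' (Nat.xor x.code.val y.code.val)⟩

instance : Zero W := ⟨⟨0⟩⟩

instance : Neg W := ⟨id⟩

theorem add_code (x y : W) : (x + y).code.val = x.code.val ^^^ y.code.val :=
  mk'_code (Nat.xor_lt_two_pow (n := 8) x.code.2 y.code.2)

theorem ext' {x y : W} (h : x.code.val = y.code.val) : x = y := W.ext (Fin.ext h)

instance : AddCommGroup W where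
  add_assoc x y t := ext' (by simp only [add_code, Nat.xor_assoc])
  zero_add x := ext' (by rw [add_code]; exact Nat.zero_xor _)
  add_zero x := ext' (by rw [add_code]; exact Nat.xor_zero _)
  add_comm x y := ext' (by simp only [add_code, Nat.xor_comm])
  neg_add_cancel x := ext' (by rw [add_code]; exact Nat.xor_self _)
  nsmul := nsmulRec
  zsmul := zsmulRec

theorem add_self (x : W) : x + x = 0 := neg_add_cancel x

theorem add_eq_zero' {x y : W} : x + y = 0 ↔ x = y := by
  refine ⟨fun h => ?_, fun h => by rw [h, add_self]⟩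
  calc x = x + (y + y) := by rw [add_self, add_zero]
    _ = y := by rw [← add_assoc, h, zero_add]

theorem add_cancel (x y : W) : x + (x + y) = y := by rw [← add_assoc, add_self, zero_add]

instance : Fintype W := Fintype.ofEquiv (Fin 256) ⟨W.mk, W.code, fun _ => rfl, fun _ => rfl⟩

theorem card_eq : Nat.card W = 256 := by
  rw [Nat.card_congr (⟨W.code, W.mk, fun _ => rfl, fun _ => rfl⟩ : W ≃ Fin 256), Nat.card_fin]

end W

open W (mk')

/-- Parity of the number of bits of a number below 256. -/
def parTab : ℕ := 0x6996966996696996966969966996966996696996699696696996966996696996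

/-- The parity of a number below 256. -/
def par (m : ℕ) : Bool := Nat.beq (Nat.land (Nat.shiftRight parTab m) 1) 1

/-- The even bits. -/
def lo (n : ℕ) : ℕ := Nat.land n 85

/-- The odd bits. -/
def hi (n : ℕ) : ℕ := Nat.land (Nat.shiftRight n 1) 85

/-- The trace of the hermitian form. -/
def bt (x y : W) : Bool :=
  par (Nat.xor (Nat.land (lo x.code.val) (hi y.code.val)) (Nat.land (hi x.code.val) (lo y.code.val)))

/-- The hermitian form on one vector. -/
def qW (x : W) : Bool := par (Nat.lor (lo x.code.val) (hi x.code.val))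

/-- Multiplication by `ω`. -/
def om (x : W) : W :=
  mk' (Nat.xor (hi x.code.val) (Nat.shiftLeft (Nat.xor (lo x.code.val) (hi x.code.val)) 1))

/-- The transvection of an isotropic vector. -/
def tv (p x : W) : W := x + ((if bt x (om p) then p else 0) + if bt x p then om p else 0)

/-- On the line of `p`. -/
def onLine (p w : W) : Bool := w == 0 || w == p || w == om p || w == p + om p

/-- Orthogonal for the hermitian form. -/
def perp (x p : W) : Bool := !bt x p && !bt x (om p)

/-- Isotropic and nonzero. -/
def iso (p : W) : Bool := !qW p && !(p == 0)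

/-- Constant on the pairs of coordinates. -/
def flat (x : W) : Bool :=
  Nat.beq (Nat.land x.code.val 0x33) (Nat.land (Nat.shiftRight x.code.val 2) 0x33)

/-- The first nonzero coordinate is one. -/
def normed (p : W) : Bool :=
  let n := p.code.val
  if Nat.beq (Nat.land n 3) 0 then
    (if Nat.beq (Nat.land n 12) 0 then
      (if Nat.beq (Nat.land n 48) 0 then Nat.beq (Nat.land n 192) 64 else Nat.beq (Nat.land n 48) 16)
    else Nat.beq (Nat.land n 12) 4)
  else Nat.beq (Nat.land n 3) 1

/-- All vectors. -/
def all1 (f : W → Bool) : Bool := (List.range 256).all fun n => f (mk' n)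

/-- Some vector. -/
def any1 (f : W → Bool) : Bool := (List.range 256).any fun n => f (mk' n)

theorem of_all1 {f : W → Bool} (h : all1 f = true) (x : W) : f x = true := by
  have := List.all_eq_true.1 h x.code.val (List.mem_range.2 x.code.2)
  rwa [W.mk'_val] at this

theorem of_any1 {f : W → Bool} (h : any1 f = true) : ∃ x, f x = true := by
  obtain ⟨n, -, hn⟩ := List.any_eq_true.1 h
  exact ⟨_, hn⟩

/-- The isotropic vectors. -/
def isoList : List W := ((List.range 256).map mk').filter iso

theorem mem_isoList {p : W} (h : iso p = true) : p ∈ isoList :=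
  List.mem_filter.2 ⟨List.mem_map.2 ⟨p.code.val, List.mem_range.2 p.code.2, W.mk'_val p⟩, h⟩

/-- The flat vectors. -/
def flatList : List W := ((List.range 256).map mk').filter flat

theorem mem_flatList {p : W} (h : flat p = true) : p ∈ flatList :=
  List.mem_filter.2 ⟨List.mem_map.2 ⟨p.code.val, List.mem_range.2 p.code.2, W.mk'_val p⟩, h⟩

/-- All isotropic vectors. -/
def allI (f : W → Bool) : Bool := isoList.all f

theorem of_allI {f : W → Bool} (h : allI f = true) {p : W} (hp : iso p = true) : f p = true :=
  List.all_eq_true.1 h p (mem_isoList hp)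

/-! ### Linearity -/

/-- The numbers with even bits only. -/
def evens : List ℕ := [0, 1, 4, 5, 16, 17, 20, 21, 64, 65, 68, 69, 80, 81, 84, 85]

theorem evens_check : ((List.range 256).all fun m => evens.contains (lo m)) = true := by decide +kernel

theorem par_check : (evens.all fun m => evens.all fun n => par (Nat.xor m n) == (par m ^^ par n)) = true := by
  decide +kernel

theorem lo_mem {m : ℕ} (h : m < 256) : lo m ∈ evens :=
  List.contains_iff_mem.1 (List.all_eq_true.1 evens_check m (List.mem_range.2 h))

theorem par_xor {m n : ℕ} (hm : m ∈ evens) (hn : n ∈ evens) : par (m ^^^ n) = (par m ^^ par n) :=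
  beq_iff_eq.1 (List.all_eq_true.1 (List.all_eq_true.1 par_check m hm) n hn)

theorem lo_xor (m n : ℕ) : lo (m ^^^ n) = lo m ^^^ lo n := Nat.and_xor_distrib_right

theorem hi_xor (m n : ℕ) : hi (m ^^^ n) = hi m ^^^ hi n := by
  show (m ^^^ n) >>> 1 &&& 85 = (m >>> 1 &&& 85) ^^^ (n >>> 1 &&& 85)
  rw [Nat.shiftRight_xor_distrib, Nat.and_xor_distrib_right]

theorem and_lt {m : ℕ} (k : ℕ) (h : m < 256) : m &&& k < 256 := lt_of_le_of_lt Nat.and_le_left h

theorem lo_lt (m : ℕ) : lo m < 256 :=
  lt_of_le_of_lt Nat.and_le_right (by norm_num)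

theorem hi_lt (m : ℕ) : hi m < 256 :=
  lt_of_le_of_lt Nat.and_le_right (by norm_num)

theorem and_even_left {m n : ℕ} (h : m < 256) : lo m &&& n ∈ evens := by
  show m &&& 85 &&& n ∈ evens
  rw [Nat.and_right_comm]
  exact lo_mem (and_lt n h)

theorem and_even_right {m n : ℕ} (h : m < 256) : n &&& lo m ∈ evens := by
  rw [Nat.and_comm]; exact and_even_left h

theorem bt_eq (x y : W) : bt x y =
    (par (lo x.code.val &&& hi y.code.val) ^^ par (hi x.code.val &&& lo y.code.val)) :=
  par_xor (and_even_left x.code.2) (and_even_right y.code.2)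

theorem bt_comm (x y : W) : bt x y = bt y x := by
  rw [bt_eq, bt_eq, Bool.xor_comm, Nat.and_comm (hi x.code.val), Nat.and_comm (lo x.code.val)]

theorem bt_add (x y t : W) : bt (x + y) t = (bt x t ^^ bt y t) := by
  simp only [bt_eq, W.add_code, lo_xor, hi_xor, Nat.and_xor_distrib_right]
  rw [par_xor (and_even_left x.code.2) (and_even_left y.code.2),
    par_xor (and_even_right t.code.2) (and_even_right t.code.2)]
  cases par (lo x.code.val &&& hi t.code.val) <;> cases par (lo y.code.val &&& hi t.code.val) <;>
    cases par (hi x.code.val &&& lo t.code.val) <;> cases par (hi y.code.val &&& lo t.code.val) <;> rfl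

theorem bt_add' (x y t : W) : bt t (x + y) = (bt t x ^^ bt t y) := by
  rw [bt_comm t, bt_add, bt_comm x, bt_comm y]

theorem bt_zero (x : W) : bt 0 x = false := by
  have h := bt_add 0 0 x
  rw [add_zero, Bool.xor_self] at h
  exact h

theorem bt_zero' (x : W) : bt x 0 = false := by rw [bt_comm, bt_zero]

/-- The sum of the unit vectors of a code. -/
def bitSum (n : ℕ) : List ℕ → W
  | [] => 0
  | j :: l => (if n.testBit j then mk' (2 ^ j) else 0) + bitSum n l

theorem bits_check : all1 (fun x => bitSum x.code.val (List.range 8) == x) = true := by decide +kernel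

theorem bits_induction {P : W → Prop} (h0 : P 0) (hadd : ∀ x y, P x → P y → P (x + y))
    (h1 : ∀ j, j < 8 → P (mk' (2 ^ j))) (x : W) : P x := by
  rw [← beq_iff_eq.1 (of_all1 bits_check x)]
  have : ∀ l : List ℕ, (∀ j ∈ l, j < 8) → P (bitSum x.code.val l) := by
    intro l
    induction l with
    | nil => intro _; exact h0
    | cons j l ih =>
      intro hl
      refine hadd _ _ ?_ (ih fun i hi => hl i (List.mem_cons_of_mem j hi))
      split
      · exact h1 j (hl j List.mem_cons_self)
      · exact h0
  exact this _ fun j hj => List.mem_range.1 hj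

/-- Two maps respecting sums agree when they agree on the unit vectors. -/
theorem eq_of_units {f g : W → W} (hf : ∀ x y, f (x + y) = f x + f y) (hg : ∀ x y, g (x + y) = g x + g y)
    (h : ((List.range 8).all fun j => f (mk' (2 ^ j)) == g (mk' (2 ^ j))) = true) (x : W) : f x = g x := by
  have z : ∀ f : W → W, (∀ x y, f (x + y) = f x + f y) → f 0 = 0 := fun f hf => by
    have := hf 0 0
    rw [add_zero] at this
    exact left_eq_add.1 this
  exact bits_induction (P := fun x => f x = g x) (by rw [z f hf, z g hg])
    (fun a b ha hb => by rw [hf, hg, ha, hb])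
    (fun j hj => beq_iff_eq.1 (List.all_eq_true.1 h j (List.mem_range.2 hj))) x

theorem om_lt (x : W) : hi x.code.val ^^^ (lo x.code.val ^^^ hi x.code.val) <<< 1 < 256 :=
  Nat.xor_lt_two_pow (n := 8) (hi_lt _) (by
    have : lo x.code.val ^^^ hi x.code.val < 2 ^ 7 :=
      Nat.xor_lt_two_pow (lt_of_le_of_lt Nat.and_le_right (by norm_num))
        (lt_of_le_of_lt Nat.and_le_right (by norm_num))
    rw [Nat.shiftLeft_eq]; omega)

theorem om_code (x : W) : (om x).code.val = hi x.code.val ^^^ (lo x.code.val ^^^ hi x.code.val) <<< 1 :=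
  W.mk'_code (om_lt x)

theorem om_add (x y : W) : om (x + y) = om x + om y := W.ext' (by
  simp only [W.add_code, om_code, lo_xor, hi_xor, Nat.shiftLeft_xor_distrib]
  ac_rfl)

theorem om_zero : om 0 = 0 := by decide +kernel

theorem om_check2 : all1 (fun x => (om (om x) + om x + x == 0) && (qW (om x) == qW x) &&
    ((om x == 0) == (x == 0))) = true := by decide +kernel

theorem om_om (x : W) : om (om x) = x + om x := by
  have h := of_all1 om_check2 x
  simp only [Bool.and_eq_true, beq_iff_eq] at h
  rw [add_assoc, W.add_eq_zero'] at h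
  rw [h.1.1, add_comm]

theorem qW_om (x : W) : qW (om x) = qW x := by
  have h := of_all1 om_check2 x
  simp only [Bool.and_eq_true, beq_iff_eq] at h
  exact h.1.2

theorem om_ne {x : W} (hx : x ≠ 0) : om x ≠ 0 := by
  intro e
  have h := of_all1 om_check2 x
  simp [e, hx] at h

theorem form_check : all1 (fun x => (List.range 8).all fun j =>
    (qW (x + mk' (2 ^ j)) == ((qW x ^^ qW (mk' (2 ^ j))) ^^ bt x (mk' (2 ^ j)))) &&
    (bt (om x) (mk' (2 ^ j)) == (bt x (mk' (2 ^ j)) ^^ bt x (om (mk' (2 ^ j)))))) = true := by decide +kernel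

theorem qW_zero : qW 0 = false := by decide +kernel

theorem qW_add (x y : W) : qW (x + y) = ((qW x ^^ qW y) ^^ bt x y) := by
  refine bits_induction (P := fun y => ∀ x, qW (x + y) = ((qW x ^^ qW y) ^^ bt x y))
    (fun x => by rw [add_zero, qW_zero, bt_zero', Bool.xor_false, Bool.xor_false])
    (fun a b ha hb x => ?_) (fun j hj x => ?_) y x
  · rw [← add_assoc, hb, ha, hb a, bt_add, bt_add']
    cases qW x <;> cases qW a <;> cases qW b <;> cases bt x a <;> cases bt x b <;> cases bt a b <;> rfl
  · have h := List.all_eq_true.1 (of_all1 form_check x) j (List.mem_range.2 hj)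
    simp only [Bool.and_eq_true, beq_iff_eq] at h
    exact h.1

theorem bt_om (x y : W) : bt (om x) y = (bt x y ^^ bt x (om y)) := by
  refine bits_induction (P := fun y => bt (om x) y = (bt x y ^^ bt x (om y)))
    (by simp [bt_zero', om_zero]) (fun a b ha hb => ?_) (fun j hj => ?_) y
  · rw [bt_add', ha, hb, om_add, bt_add', bt_add']
    cases bt x a <;> cases bt x b <;> cases bt x (om a) <;> cases bt x (om b) <;> rfl
  · have h := List.all_eq_true.1 (of_all1 form_check x) j (List.mem_range.2 hj)
    simp only [Bool.and_eq_true, beq_iff_eq] at h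
    exact h.2

theorem bt_self (x : W) : bt x x = false := by
  rw [bt_eq, Nat.and_comm (lo x.code.val), Bool.xor_self]

theorem bt_om_om (x y : W) : bt (om x) (om y) = bt x y := by
  rw [bt_om, om_om, bt_add']
  cases bt x y <;> cases bt x (om y) <;> rfl

theorem nondeg_check : all1 (fun x => (x == 0) || any1 fun y => bt x y) = true := by decide +kernel

theorem nondeg {x : W} (h : ∀ y, bt x y = false) : x = 0 := by
  have := of_all1 nondeg_check x
  simp only [Bool.or_eq_true, beq_iff_eq] at this
  refine this.resolve_right fun k => ?_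
  obtain ⟨y, hy⟩ := of_any1 k
  rw [h y] at hy
  exact Bool.noConfusion hy

/-! ### Lines and orthogonality -/

theorem perp_iff {x p : W} : perp x p = true ↔ bt x p = false ∧ bt x (om p) = false := by
  simp [perp]

theorem perp_symm {x p : W} (h : perp x p = true) : perp p x = true := by
  rw [perp_iff] at h ⊢
  refine ⟨by rw [bt_comm, h.1], ?_⟩
  rw [bt_comm, bt_om, h.1, h.2]; rfl

theorem perp_zero (p : W) : perp 0 p = true := perp_iff.2 ⟨bt_zero _, bt_zero _⟩

theorem perp_add {x y p : W} (hx : perp x p = true) (hy : perp y p = true) : perp (x + y) p = true := by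
  rw [perp_iff] at hx hy ⊢
  rw [bt_add, bt_add, hx.1, hx.2, hy.1, hy.2]; exact ⟨rfl, rfl⟩

theorem perp_om {x p : W} (hx : perp x p = true) : perp (om x) p = true := by
  rw [perp_iff] at hx ⊢
  rw [bt_om, bt_om, om_om, bt_add', hx.1, hx.2]; exact ⟨rfl, rfl⟩

theorem iso_iff {p : W} : iso p = true ↔ qW p = false ∧ p ≠ 0 := by simp [iso]

theorem perp_self {p : W} (h : iso p = true) : perp p p = true := by
  refine perp_iff.2 ⟨bt_self p, ?_⟩
  have h2 := qW_add p (om p)
  rw [qW_om, ← om_om, qW_om, qW_om, (iso_iff.1 h).1] at h2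
  simpa using h2.symm

theorem onLine_iff {p w : W} : onLine p w = true ↔ w = 0 ∨ w = p ∨ w = om p ∨ w = p + om p := by
  simp [onLine, or_assoc]

theorem onLine_zero (p : W) : onLine p 0 = true := onLine_iff.2 (Or.inl rfl)

theorem onLine_self (p : W) : onLine p p = true := onLine_iff.2 (Or.inr (Or.inl rfl))

theorem line_add_check : all1 (fun p => [0, p, om p, p + om p].all fun x =>
    [0, p, om p, p + om p].all fun y => onLine p (x + y)) = true := by decide +kernel

theorem onLine_add {p x y : W} (hx : onLine p x = true) (hy : onLine p y = true) :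
    onLine p (x + y) = true := by
  have h := List.all_eq_true.1 (of_all1 line_add_check p) x (by simpa using onLine_iff.1 hx)
  exact List.all_eq_true.1 h y (by simpa using onLine_iff.1 hy)

theorem perp_line {x p w : W} (h : perp x p = true) (hw : onLine p w = true) : bt x w = false := by
  rw [perp_iff] at h
  rcases onLine_iff.1 hw with rfl | rfl | rfl | rfl
  · exact bt_zero' x
  · exact h.1
  · exact h.2
  · rw [bt_add', h.1, h.2]; rfl

theorem onLine_perp {p w : W} (hp : iso p = true) (hw : onLine p w = true) : perp w p = true := by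
  rcases onLine_iff.1 hw with rfl | rfl | rfl | rfl
  · exact perp_zero p
  · exact perp_self hp
  · exact perp_om (perp_self hp)
  · exact perp_add (perp_self hp) (perp_om (perp_self hp))

theorem line_check : all1 (fun s => all1 fun p => !(onLine s p) || p == 0 ||
    ((List.range 4).all fun k =>
      onLine p (match k with | 0 => 0 | 1 => s | 2 => om s | _ => s + om s))) = true := by decide +kernel

theorem onLine_trans {s p r : W} (hp : onLine s p = true) (hr : onLine s r = true) (hp0 : p ≠ 0) :
    onLine p r = true := by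
  have h := of_all1 (of_all1 line_check s) p
  simp only [hp, Bool.not_true, Bool.false_or, Bool.or_eq_true, beq_iff_eq, hp0, false_or] at h
  rcases onLine_iff.1 hr with rfl | rfl | rfl | rfl
  · exact List.all_eq_true.1 h 0 (by decide)
  · exact List.all_eq_true.1 h 1 (by decide)
  · exact List.all_eq_true.1 h 2 (by decide)
  · exact List.all_eq_true.1 h 3 (by decide)

/-! ### Transvections -/

theorem tv_zero (x : W) : tv 0 x = x := by simp [tv, om_zero]

theorem tv_add (p x y : W) : tv p (x + y) = tv p x + tv p y := by
  simp only [tv, bt_add]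
  cases bt x (om p) <;> cases bt y (om p) <;> cases bt x p <;> cases bt y p <;>
    simp [W.add_self, W.add_cancel, add_comm, add_left_comm, add_assoc]

theorem tv_fix {p x : W} (hp : p ≠ 0) : tv p x = x ↔ perp x p = true := by
  rw [perp_iff]
  constructor
  · intro h
    have h' : ((if bt x (om p) then p else 0) + if bt x p then om p else 0) = 0 := by
      have := congrArg (x + ·) h
      simpa [tv, W.add_cancel, W.add_self] using this
    have hpo : p + om p ≠ 0 := fun e => by
      have := om_om p
      rw [e] at this
      exact om_ne (om_ne hp) this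
    cases h1 : bt x p <;> cases h2 : bt x (om p) <;> simp [h1, h2, hp, om_ne hp, hpo] at h' ⊢
  · rintro ⟨h1, h2⟩
    simp [tv, h1, h2]

theorem tv_line (p x : W) : onLine p (tv p x + x) = true := by
  have e : tv p x + x = (if bt x (om p) then p else 0) + if bt x p then om p else 0 := by
    rw [tv, add_comm, W.add_cancel]
  rw [e, onLine_iff]
  cases bt x p <;> cases bt x (om p) <;> simp

theorem sameTv_check : allI (fun p => [p, om p, p + om p].all fun r =>
    (List.range 8).all fun j => tv p (mk' (2 ^ j)) == tv r (mk' (2 ^ j))) = true := by decide +kernel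

theorem tv_same {p r : W} (hp : iso p = true) (hr : r ≠ 0) (h : onLine p r = true) (x : W) :
    tv p x = tv r x := by
  refine eq_of_units (tv_add p) (tv_add r) (List.all_eq_true.1 (of_allI sameTv_check hp) r ?_) x
  simpa [hr] using onLine_iff.1 h

theorem perp_of_onLine {x p r : W} (h : perp x p = true) (hr : onLine p r = true) : perp x r = true := by
  have h' := perp_symm h
  refine perp_symm ?_
  rcases onLine_iff.1 hr with rfl | rfl | rfl | rfl
  exacts [perp_zero x, h', perp_om h', perp_add h' (perp_om h')]

theorem tv_move {p : W} (hp : p ≠ 0) {x : W} (h : perp x p = false) : tv p x + x ≠ 0 := by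
  intro e
  rw [W.add_eq_zero', tv_fix hp] at e
  rw [e] at h
  exact Bool.noConfusion h

theorem onLine_symm {p y : W} (h : onLine p y = true) (hy : y ≠ 0) : onLine y p = true :=
  onLine_trans h (onLine_self p) hy

/-- Lines with a common nonzero vector coincide. -/
theorem onLine_meet {p r y : W} (hp : onLine p y = true) (hr : onLine r y = true) (hy : y ≠ 0) (hp0 : p ≠ 0) :
    onLine p r = true :=
  onLine_trans (onLine_symm hp hy) (onLine_symm hr hy) hp0

theorem tv_eq_iff {p r : W} (hp : iso p = true) (h : ∀ x, tv p x = tv r x) :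
    onLine p r = true := by
  obtain ⟨x, hx⟩ : ∃ x, perp x p = false := by
    by_contra hn
    simp only [not_exists, Bool.not_eq_false] at hn
    exact (iso_iff.1 hp).2 (nondeg fun y => by rw [bt_comm]; exact (perp_iff.1 (hn y)).1)
  have h1 := tv_line r x
  rw [← h] at h1
  exact onLine_meet (tv_line p x) h1 (tv_move (iso_iff.1 hp).2 hx) (iso_iff.1 hp).2

theorem tv_invol {p : W} (hp : iso p = true) (x : W) : tv p (tv p x) = x := by
  obtain ⟨y, hy, e⟩ : ∃ y, onLine p y = true ∧ tv p x = x + y :=
    ⟨tv p x + x, tv_line p x, by rw [add_comm (tv p x), W.add_cancel]⟩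
  have e' := (tv_fix (iso_iff.1 hp).2).2 (onLine_perp hp hy)
  rw [e, tv_add, e, e', add_assoc, W.add_self, add_zero]

theorem tv_tv {p r : W} (hp : iso p = true) (h : perp r p = true) (x : W) :
    tv p (tv r x) = x + (tv p x + x) + (tv r x + x) := by
  have e' := (tv_fix (iso_iff.1 hp).2).2
    (perp_symm (perp_of_onLine (perp_symm h) (tv_line r x)))
  have e : tv r x = x + (tv r x + x) := by rw [add_comm (tv r x), W.add_cancel]
  conv_lhs => rw [e, tv_add, e']
  rw [add_comm (tv p x) x, W.add_cancel]

theorem tv_comm {p r : W} (hp : iso p = true) (hr : iso r = true) (h : perp p r = true) (x : W) :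
    tv p (tv r x) = tv r (tv p x) := by
  rw [tv_tv hp (perp_symm h), tv_tv hr h, add_right_comm]

theorem tv_comm_iff {p r : W} (hp : iso p = true) (hr : iso r = true) (h : ∀ x, tv p (tv r x) = tv r (tv p x)) :
    perp p r = true := by
  by_contra hn
  rw [Bool.not_eq_true] at hn
  have e := h p
  rw [(tv_fix (iso_iff.1 hp).2).2 (perp_self hp), tv_fix (iso_iff.1 hp).2] at e
  have hy : perp (tv r p + p) p = true := perp_add e (perp_self hp)
  have := perp_of_onLine (perp_symm hy) (onLine_symm (tv_line r p) (tv_move (iso_iff.1 hr).2 hn))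
  rw [this] at hn
  exact Bool.noConfusion hn

theorem radical_check : ((((List.range 256).map mk').filter fun p => iso p && normed p).all fun p =>
    all1 fun w => onLine p w || any1 fun x => perp x p && bt x w) = true := by
  decide +kernel

theorem normed_check : allI (fun p => [p, om p, p + om p].any normed) = true := by decide +kernel

theorem onLine_iso {p q : W} (hp : iso p = true) (hq : onLine p q = true) (h0 : q ≠ 0) : iso q = true := by
  refine iso_iff.2 ⟨?_, h0⟩
  have h := (iso_iff.1 hp).1
  have ho : qW (om p) = false := by rw [qW_om, h]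
  rcases onLine_iff.1 hq with rfl | rfl | rfl | rfl
  exacts [absurd rfl h0, h, ho, by rw [qW_add, h, ho, (perp_iff.1 (perp_self hp)).2]; rfl]

/-- The orthogonal of the orthogonal of a point is the point. -/
theorem exists_perp_bt {p w : W} (hp : iso p = true) (h : onLine p w = false) :
    ∃ u, perp u p = true ∧ bt u w = true := by
  obtain ⟨q, hq, hn⟩ := List.any_eq_true.1 (of_allI normed_check hp)
  have hp0 := (iso_iff.1 hp).2
  have hql : onLine p q = true ∧ q ≠ 0 := by
    simp only [List.mem_cons, List.not_mem_nil, or_false] at hq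
    rcases hq with rfl | rfl | rfl
    · exact ⟨onLine_self q, hp0⟩
    · exact ⟨onLine_iff.2 (Or.inr (Or.inr (Or.inl rfl))), om_ne hp0⟩
    · refine ⟨onLine_iff.2 (Or.inr (Or.inr (Or.inr rfl))), fun e => om_ne (om_ne hp0) ?_⟩
      rw [om_om, e]
  have hm : q ∈ ((List.range 256).map mk').filter fun p => iso p && normed p :=
    List.mem_filter.2 ⟨List.mem_map.2 ⟨q.code.val, List.mem_range.2 q.code.2, W.mk'_val q⟩,
      by rw [onLine_iso hp hql.1 hql.2, hn]; rfl⟩
  have := of_all1 (List.all_eq_true.1 radical_check q hm) w
  rw [show onLine q w = false from Bool.eq_false_iff.2 fun k => by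
    rw [onLine_trans (onLine_symm hql.1 hql.2) k hp0] at h
    exact Bool.noConfusion h, Bool.false_or] at this
  obtain ⟨u, hu⟩ := of_any1 this
  rw [Bool.and_eq_true] at hu
  exact ⟨u, perp_of_onLine hu.1 (onLine_symm hql.1 hql.2), hu.2⟩

/-- A product of two commuting transvections is no transvection. -/
theorem tv_prod_ne {p r s : W} (hp : iso p = true) (hr : iso r = true) (h : perp p r = true)
    (hne : onLine p r = false) : ¬ ∀ x, tv p (tv r x) = tv s x := by
  intro hall
  have hp0 := (iso_iff.1 hp).2
  have h1 : ∀ {u v : W}, iso u = true → iso v = true → perp u v = true → onLine v u = false →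
      (∀ x, tv u (tv v x) = tv s x) → onLine u s = true := by
    intro u v hu hv huv hn hall'
    obtain ⟨x, hx, hxu⟩ := exists_perp_bt hv hn
    have hnp : perp x u = false := Bool.eq_false_iff.2 fun k => by
      rw [(perp_iff.1 k).1] at hxu; exact Bool.noConfusion hxu
    have e := tv_line s x
    rw [← hall' x, (tv_fix (iso_iff.1 hv).2).2 hx] at e
    exact onLine_meet (tv_line u x) e (tv_move (iso_iff.1 hu).2 hnp) (iso_iff.1 hu).2
  have hsym : onLine r p = false := Bool.eq_false_iff.2 fun hc => by
    rw [onLine_symm hc hp0] at hne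
    exact Bool.noConfusion hne
  have hp' := h1 hp hr h hsym hall
  have hr' := h1 hr hp (perp_symm h) hne fun x => by rw [← tv_comm hp hr h, hall]
  have hs : s ≠ 0 := fun e => by
    obtain ⟨x, hx, hxp⟩ := exists_perp_bt hr hsym
    have := hall x
    rw [e, tv_zero, (tv_fix (iso_iff.1 hr).2).2 hx, tv_fix hp0] at this
    rw [(perp_iff.1 this).1] at hxp
    exact Bool.noConfusion hxp
  rw [onLine_meet hp' hr' hs hp0] at hne
  exact Bool.noConfusion hne

theorem mem_line_of_bt {p w : W} (hp : iso p = true) (h : ∀ u, perp u p = true → bt u w = false) :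
    onLine p w = true := by
  by_contra hn
  obtain ⟨u, hu, hw⟩ := exists_perp_bt hp (Bool.eq_false_iff.2 hn)
  rw [h u hu] at hw
  exact Bool.noConfusion hw

theorem exists_shift {p r : W} (h : perp r p = false) (x : W) :
    ∃ y, onLine r y = true ∧ perp (x + y) p = true := by
  have e1 : bt (om r) p = (bt r p ^^ bt r (om p)) := bt_om r p
  have e2 : bt (om r) (om p) = bt r p := bt_om_om r p
  have hne : ¬ (bt r p = false ∧ bt r (om p) = false) := fun k => by
    rw [perp_iff.2 k] at h; exact Bool.noConfusion h
  have key : ∃ y, onLine r y = true ∧ bt y p = bt x p ∧ bt y (om p) = bt x (om p) := by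
    have q0 : onLine r 0 = true := onLine_zero r
    have q1 : onLine r r = true := onLine_self r
    have q2 : onLine r (om r) = true := onLine_iff.2 (Or.inr (Or.inr (Or.inl rfl)))
    have q3 : onLine r (r + om r) = true := onLine_iff.2 (Or.inr (Or.inr (Or.inr rfl)))
    have e3 := bt_add r (om r) p
    have e4 := bt_add r (om r) (om p)
    rw [e1] at e3
    rw [e2] at e4
    have z1 := bt_zero p
    have z2 := bt_zero (om p)
    cases h1 : bt x p <;> cases h2 : bt x (om p) <;> cases h3 : bt r p <;> cases h4 : bt r (om p) <;>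
      simp only [h3, h4] at e1 e2 e3 e4 hne <;>
      first
        | exact ⟨0, q0, z1, z2⟩
        | exact (hne ⟨rfl, rfl⟩).elim
        | exact (hne ⟨trivial, trivial⟩).elim
        | exact (hne trivial).elim
        | exact ⟨0, q0, z1, z2⟩
        | exact ⟨r, q1, h3, h4⟩
        | exact ⟨om r, q2, e1, e2⟩
        | exact ⟨r + om r, q3, e3, e4⟩
  obtain ⟨y, hy, a, b⟩ := key
  refine ⟨y, hy, perp_iff.2 ?_⟩
  rw [bt_add, bt_add, a, b, Bool.xor_self, Bool.xor_self]
  exact ⟨rfl, rfl⟩

/-- The common orthogonal of two points spanning a hyperbolic line is nondegenerate. -/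
theorem nondeg_pair {p r w : W} (_hp : iso p = true) (hr : iso r = true) (h : perp p r = false)
    (hwp : perp w p = true) (hwr : perp w r = true)
    (hw : ∀ u, perp u p = true → perp u r = true → bt w u = false) : w = 0 := by
  refine nondeg fun x => ?_
  have h' : perp r p = false := Bool.eq_false_iff.2 fun hc => by
    rw [perp_symm hc] at h; exact Bool.noConfusion h
  obtain ⟨a, ha, ha'⟩ := exists_shift h x
  obtain ⟨b, hb, hb'⟩ := exists_shift h' (x + a)
  have e : bt w (x + a + b) = false := hw _ hb' (perp_add ha' (onLine_perp hr hb))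
  rw [bt_add', bt_add', perp_line hwp ha, perp_line hwr hb] at e
  simpa using e

/-! ### The flat plane -/

theorem flat_check : all1 (fun x => !(flat x) || (!qW x && flat (om x) &&
    all1 fun y => !(flat y) || (!bt x y && flat (x + y)))) = true := by decide +kernel

theorem flat_facts {x y : W} (hx : flat x = true) (hy : flat y = true) :
    qW x = false ∧ flat (om x) = true ∧ bt x y = false ∧ flat (x + y) = true := by
  have h := of_all1 flat_check x
  simp only [hx, Bool.not_true, Bool.false_or, Bool.and_eq_true, Bool.not_eq_true'] at h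
  have h2 := of_all1 h.2 y
  simp only [hy, Bool.not_true, Bool.false_or, Bool.and_eq_true, Bool.not_eq_true'] at h2
  exact ⟨h.1.1, h.1.2, h2.1, h2.2⟩

theorem flat_zero : flat 0 = true := by decide +kernel

theorem flat_perp {x y : W} (hx : flat x = true) (hy : flat y = true) : perp x y = true :=
  perp_iff.2 ⟨(flat_facts hx hy).2.2.1, (flat_facts hx (flat_facts hy hy).2.1).2.2.1⟩

theorem flat_iso {x : W} (hx : flat x = true) (h : x ≠ 0) : iso x = true :=
  iso_iff.2 ⟨(flat_facts hx hx).1, h⟩

theorem flat_line {p w : W} (hp : flat p = true) (hw : onLine p w = true) : flat w = true := by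
  have ho := (flat_facts hp hp).2.1
  rcases onLine_iff.1 hw with rfl | rfl | rfl | rfl
  exacts [flat_zero, hp, ho, (flat_facts hp ho).2.2.2]

theorem self_perp_check : all1 (fun w => !(perp w (mk' 5) && perp w (mk' 80)) || flat w) = true ∧
    (flatList.all fun p => p == 0 || flatList.all fun r => onLine p r ||
      flatList.all fun a => [0, r, om r, r + om r].any fun y => onLine p (a + y)) = true ∧
    flat (mk' 5) = true ∧ flat (mk' 80) = true := by decide +kernel

/-- The flat plane is its own orthogonal. -/
theorem flat_of_perp {p r w : W} (hp : flat p = true) (hp0 : p ≠ 0) (hr : flat r = true)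
    (h : onLine p r = false) (h1 : perp w p = true) (h2 : perp w r = true) : flat w = true := by
  obtain ⟨hc, hsp, f5, f80⟩ := self_perp_check
  have key : ∀ {a : W}, flat a = true → perp w a = true := by
    intro a ha
    have k := List.all_eq_true.1 hsp p (mem_flatList hp)
    simp only [Bool.or_eq_true, beq_iff_eq, hp0, false_or] at k
    have k' := List.all_eq_true.1 k r (mem_flatList hr)
    rw [h, Bool.false_or] at k'
    obtain ⟨y, hy, hay⟩ := List.any_eq_true.1 (List.all_eq_true.1 k' a (mem_flatList ha))
    have hy' : onLine r y = true := onLine_iff.2 (by simpa using hy)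
    have e : a = (a + y) + y := by rw [add_assoc, W.add_self, add_zero]
    rw [e]
    exact perp_symm (perp_add (perp_symm (perp_of_onLine h1 hay)) (perp_symm (perp_of_onLine h2 hy')))
  have := of_all1 hc w
  simpa [key f5, key f80] using this

theorem span_check : all1 (fun x => [0, mk' 1, mk' 2, mk' 3].any fun a => [0, mk' 16, mk' 32, mk' 48].any fun b =>
    flat (x + a + b)) = true ∧ om (mk' 1) = mk' 2 ∧ om (mk' 16) = mk' 32 ∧
      mk' 1 + mk' 2 = mk' 3 ∧ mk' 16 + mk' 32 = mk' 48 := by decide +kernel

theorem uni_check : (flatList.all fun s => flatList.all fun t =>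
    !((qW (mk' 1 + s) == qW (mk' 1)) && (qW (mk' 16 + t) == qW (mk' 16)) &&
      (bt (mk' 1 + s) (mk' 16 + t) == bt (mk' 1) (mk' 16)) &&
      (bt (mk' 1 + s) (om (mk' 16 + t)) == bt (mk' 1) (om (mk' 16)))) ||
    flatList.any fun p => flatList.any fun r => (tv p (tv r (mk' 1)) == mk' 1 + s) &&
      (tv p (tv r (mk' 16)) == mk' 16 + t)) = true := by decide +kernel

/-- An isometry fixing the flat plane vector by vector and moving into it is a product of two of its
transvections. -/
theorem unipotent {g : W → W} (hadd : ∀ x y, g (x + y) = g x + g y) (hom : ∀ x, g (om x) = om (g x))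
    (hq : ∀ x, qW (g x) = qW x) (hfix : ∀ x, flat x = true → g x = x)
    (him : ∀ x, flat (g x + x) = true) :
    ∃ p r, flat p = true ∧ flat r = true ∧ ∀ x, g x = tv p (tv r x) := by
  have hbt : ∀ x y, bt (g x) (g y) = bt x y := fun x y => by
    have a := qW_add (g x) (g y)
    rw [← hadd, hq, hq, hq, qW_add] at a
    revert a
    cases qW x <;> cases qW y <;> cases bt (g x) (g y) <;> cases bt x y <;> simp
  set s := g (mk' 1) + mk' 1 with hs
  set t := g (mk' 16) + mk' 16 with ht
  have es : mk' 1 + s = g (mk' 1) := by rw [hs, add_comm (g _), W.add_cancel]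
  have et : mk' 16 + t = g (mk' 16) := by rw [ht, add_comm (g _), W.add_cancel]
  have h := List.all_eq_true.1 (List.all_eq_true.1 uni_check s (mem_flatList (him _))) t (mem_flatList (him _))
  simp only [es, et, ← hom, hq, hbt, beq_self_eq_true, Bool.and_self, Bool.not_true, Bool.false_or] at h
  obtain ⟨p, hpm, hp⟩ := List.any_eq_true.1 h
  obtain ⟨r, hrm, hr⟩ := List.any_eq_true.1 hp
  simp only [Bool.and_eq_true, beq_iff_eq] at hr
  have hpf : flat p = true := (List.mem_filter.1 hpm).2
  have hrf : flat r = true := (List.mem_filter.1 hrm).2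
  refine ⟨p, r, hpf, hrf, fun x => ?_⟩
  set f := fun x => tv p (tv r x) with hf
  have fadd : ∀ a b, f (a + b) = f a + f b := fun a b => by simp only [hf, tv_add]
  have ffix : ∀ a, flat a = true → f a = a := by
    intro a ha
    have hfx : ∀ {c : W}, flat c = true → tv c a = a := fun {c} hc => by
      by_cases c0 : c = 0
      · rw [c0, tv_zero]
      · exact (tv_fix c0).2 (flat_perp ha hc)
    simp only [hf, hfx hrf, hfx hpf]
  have htom : ∀ c a, tv c (om a) = om (tv c a) := fun c a => by
    have e1 : bt (om a) c = (bt a c ^^ bt a (om c)) := bt_om a c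
    have e2 : bt (om a) (om c) = bt a c := bt_om_om a c
    have e3 : om (c + om c) = c := by rw [om_add, om_om, add_comm c (om c), W.add_cancel]
    simp only [tv, e1, e2]
    cases h1 : bt a c <;> cases h2 : bt a (om c) <;>
      simp [om_add, e3, om_om]
  have fom : ∀ a, f (om a) = om (f a) := fun a => by simp only [hf, htom]
  have f1 : f (mk' 1) = g (mk' 1) := hr.1
  have f16 : f (mk' 16) = g (mk' 16) := hr.2
  obtain ⟨hsp, o1, o16, s1, s16⟩ := span_check
  obtain ⟨a, ha, hb⟩ := List.any_eq_true.1 (of_all1 hsp x)
  obtain ⟨b, hb, hab⟩ := List.any_eq_true.1 hb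
  have key : ∀ {u : W}, f u = g u → f (om u) = g (om u) := fun {u} e => by rw [fom, hom, e]
  have z0 : f 0 = g 0 := by rw [ffix 0 flat_zero, hfix 0 flat_zero]
  have k : f a = g a := by
    simp only [List.mem_cons, List.not_mem_nil, or_false] at ha
    rcases ha with rfl | rfl | rfl | rfl
    · exact z0
    · exact f1
    · rw [← o1]; exact key f1
    · rw [← s1, fadd, hadd, ← o1, key f1, f1]
  have l : f b = g b := by
    simp only [List.mem_cons, List.not_mem_nil, or_false] at hb
    rcases hb with rfl | rfl | rfl | rfl
    · exact z0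
    · exact f16
    · rw [← o16]; exact key f16
    · rw [← s16, fadd, hadd, ← o16, key f16, f16]
  have e : x = x + a + b + b + a := by
    rw [add_assoc (x + a) b b, W.add_self, add_zero, add_assoc, W.add_self, add_zero]
  show g x = f x
  rw [e, fadd, fadd, hadd, hadd, k, l, ffix _ hab, hfix _ hab]

/-! ### Points -/

/-- The representatives of the points. -/
def ptList : List W := isoList.filter normed

theorem pt_check : allI (fun p => Nat.beq ((ptList.filter fun r => onLine r p).length) 1) = true ∧
    ptList.length = 45 ∧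
    (ptList.all fun p => Nat.beq ((ptList.filter fun r => perp r p).length) 13) = true ∧
    (ptList.all fun p => ptList.all fun r => perp p r ||
      Nat.beq ((ptList.filter fun s => perp s p && perp s r).length) 3) = true ∧
    (ptList.all fun p => ptList.all fun r => p == r ||
      ptList.any fun s => perp s p && !perp s r) = true := by decide +kernel

theorem ptList_nodup : ptList.Nodup := by
  refine List.Nodup.filter _ (List.Nodup.filter _ ((List.nodup_map_iff_inj_on List.nodup_range).2 ?_))
  intro a ha b hb e
  have := congrArg (fun x : W => x.code.val) e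
  simpa [W.mk'_code (List.mem_range.1 ha), W.mk'_code (List.mem_range.1 hb)] using this

theorem iso_of_mem {p : W} (h : p ∈ ptList) : iso p = true :=
  (List.mem_filter.1 (List.mem_filter.1 h).1).2

/-- A point. -/
abbrev Pt : Type := {p : W // p ∈ ptList.toFinset}

theorem Pt.iso (p : Pt) : iso p.1 = true := iso_of_mem (List.mem_toFinset.1 p.2)

theorem Pt.ne_zero (p : Pt) : p.1 ≠ 0 := (iso_iff.1 p.iso).2

theorem card_pt : Nat.card Pt = 45 := by
  rw [Nat.card_eq_fintype_card, Fintype.card_coe, List.toFinset_card_of_nodup ptList_nodup, pt_check.2.1]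

theorem exists_pt {p : W} (hp : UCent.iso p = true) : ∃! r : Pt, onLine r.1 p = true := by
  have h := Nat.eq_of_beq_eq_true (of_allI pt_check.1 hp)
  obtain ⟨r, hr⟩ := List.length_eq_one_iff.1 h
  have hm : r ∈ ptList.filter fun r => onLine r p := by rw [hr]; exact List.mem_singleton_self r
  refine ⟨⟨r, List.mem_toFinset.2 (List.mem_filter.1 hm).1⟩, (List.mem_filter.1 hm).2, fun s hs => ?_⟩
  have : s.1 ∈ ptList.filter fun r => onLine r p := List.mem_filter.2 ⟨List.mem_toFinset.1 s.2, hs⟩
  rw [hr] at this
  exact Subtype.ext (List.mem_singleton.1 this)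

theorem Pt.eq_of_line {p r : Pt} (h : onLine p.1 r.1 = true) : p = r := by
  obtain ⟨s, -, hu⟩ := exists_pt r.iso
  exact (hu p h).trans (hu r (onLine_self r.1)).symm

theorem card_filter_pt (f : W → Bool) :
    (Finset.univ.filter fun s : Pt => f s.1 = true).card = (ptList.filter f).length := by
  rw [← List.toFinset_card_of_nodup (ptList_nodup.filter _)]
  refine Finset.card_bij' (fun s _ => s.1) (fun a ha => ⟨a, ?_⟩) ?_ ?_ ?_ ?_
  · exact List.mem_toFinset.2 (List.mem_filter.1 (List.mem_toFinset.1 ha)).1
  · intro s hs
    exact List.mem_toFinset.2 (List.mem_filter.2 ⟨List.mem_toFinset.1 s.2, (Finset.mem_filter.1 hs).2⟩)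
  · intro a ha
    exact Finset.mem_filter.2 ⟨Finset.mem_univ _, (List.mem_filter.1 (List.mem_toFinset.1 ha)).2⟩
  · intros; rfl
  · intros; rfl

theorem card_perp (p : Pt) : (Finset.univ.filter fun s : Pt => perp s.1 p.1 = true).card = 13 := by
  rw [card_filter_pt fun s => perp s p.1]
  exact Nat.eq_of_beq_eq_true (List.all_eq_true.1 pt_check.2.2.1 p.1 (List.mem_toFinset.1 p.2))

theorem card_common {p r : Pt} (h : perp p.1 r.1 = false) :
    (Finset.univ.filter fun s : Pt => (perp s.1 p.1 && perp s.1 r.1) = true).card = 3 := by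
  rw [card_filter_pt fun s => perp s p.1 && perp s r.1]
  have := List.all_eq_true.1 (List.all_eq_true.1 pt_check.2.2.2.1 p.1 (List.mem_toFinset.1 p.2)) r.1
    (List.mem_toFinset.1 r.2)
  rw [h, Bool.false_or] at this
  exact Nat.eq_of_beq_eq_true this

theorem exists_common {p r : Pt} (h : perp p.1 r.1 = false) :
    ∃ s : Pt, perp s.1 p.1 = true ∧ perp s.1 r.1 = true := by
  obtain ⟨s, hs⟩ := Finset.card_pos.1 (show 0 < (Finset.univ.filter fun s : Pt =>
    (perp s.1 p.1 && perp s.1 r.1) = true).card by rw [card_common h]; norm_num)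
  exact ⟨s, Bool.and_eq_true_iff.1 (Finset.mem_filter.1 hs).2⟩

theorem exists_sep {p r : Pt} (h : p ≠ r) : ∃ s : Pt, perp s.1 p.1 = true ∧ perp s.1 r.1 = false := by
  have := List.all_eq_true.1 (List.all_eq_true.1 pt_check.2.2.2.2 p.1 (List.mem_toFinset.1 p.2)) r.1
    (List.mem_toFinset.1 r.2)
  have hne : ¬ p.1 = r.1 := fun e => h (Subtype.ext e)
  simp only [Bool.or_eq_true, beq_iff_eq, hne, false_or] at this
  obtain ⟨s, hs, hs'⟩ := List.any_eq_true.1 this
  exact ⟨⟨s, List.mem_toFinset.2 hs⟩, by simpa using hs'⟩

theorem plane_check : allI (fun p => any1 fun r => iso r && perp r p && !(onLine p r)) = true := by decide +kernel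

/-- An isotropic vector orthogonal to a point lies with it in a totally isotropic plane. -/
theorem exists_plane {p w : W} (hp : iso p = true) (hw : perp w p = true) (hq : qW w = false) :
    ∃ r, iso r = true ∧ perp r p = true ∧ onLine p r = false ∧ (onLine p w = true ∨ w = r) := by
  by_cases h : onLine p w = true
  · obtain ⟨r, hr⟩ := of_any1 (of_allI plane_check hp)
    simp only [Bool.and_eq_true, Bool.not_eq_true'] at hr
    exact ⟨r, hr.1.1, hr.1.2, hr.2, Or.inl h⟩
  · refine ⟨w, iso_iff.2 ⟨hq, fun e => h ?_⟩, hw, Bool.eq_false_iff.2 h, Or.inr rfl⟩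
    rw [e]; exact onLine_zero p

end CfsgLib.ThreeTrans.UCent
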