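import Mathlib
import Cfsg.Agent.Lib.ThreeTrans.UCent.Geom
import Cfsg.Agent.Lib.ThreeTrans.LocalSymThree

/-! An involution whose centraliser extends the extraspecial group of order `2^9` by a group of isometries
of the four-dimensional unitary space, with an elementary abelian subgroup containing the conjugates with
centres in the flat plane: every involution of the centraliser is conjugate into that subgroup, and the
conjugates in the centraliser are the lifts of transvections. -/

set_option autoImplicit false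
set_option linter.unusedSectionVars false

namespace CfsgLib.ThreeTrans.UCent

open CfsgLib.ThreeTrans.LocalSymThree (nbr)

universe u

variable {G : Type u} [Group G]

/-- Conjugation. -/
def cj (g x : G) : G := g * x * g⁻¹

theorem cj_mul (g x y : G) : cj g (x * y) = cj g x * cj g y := by simp [cj, mul_assoc]

theorem cj_cj (g k x : G) : cj g (cj k x) = cj (g * k) x := by simp [cj, mul_assoc]

theorem cj_one (x : G) : cj 1 x = x := by simp [cj]

theorem cj_inv (g x : G) : cj g x⁻¹ = (cj g x)⁻¹ := by simp [cj, mul_assoc]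

theorem cj_eq_self {g x : G} : cj g x = x ↔ Commute g x := mul_inv_eq_iff_eq_mul

theorem cj_inj {g x y : G} (h : cj g x = cj g y) : x = y := mul_left_cancel (mul_right_cancel h)

theorem isConj_cj (g : G) {d x : G} (h : IsConj d x) : IsConj d (cj g x) :=
  h.trans (isConj_iff.2 ⟨g, rfl⟩)

theorem commute_cj {g x y : G} (h : Commute x y) : Commute (cj g x) (cj g y) :=
  show cj g x * cj g y = cj g y * cj g x by rw [← cj_mul, ← cj_mul, h.eq]

theorem commute_cj_fix {g x d : G} (hg : Commute g d) (h : Commute x d) : Commute (cj g x) d := by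
  have := commute_cj (g := g) h
  rwa [cj_eq_self.2 hg] at this

/-- The conjugates of an involution. -/
def Dc (d : G) : Set G := conjugatesOf d

theorem Dc_eq {d a : G} (h : a ∈ Dc d) : Dc a = Dc d := (IsConj.conjugatesOf_eq h).symm

/-- The data. -/
structure Hyp (d : G) where
  ord : orderOf d = 2
  Q : Subgroup G
  Q_le : ∀ q ∈ Q, Commute q d
  dQ : d ∈ Q
  Q_norm : ∀ g, Commute g d → ∀ q ∈ Q, cj g q ∈ Q
  co : G → W
  co_mul : ∀ p ∈ Q, ∀ q ∈ Q, co (p * q) = co p + co q
  co_surj : ∀ x : W, ∃ q ∈ Q, co q = x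
  co_ker : ∀ q ∈ Q, (co q = 0 ↔ q = 1 ∨ q = d)
  comm : ∀ p ∈ Q, ∀ q ∈ Q, (p * q = q * p ↔ bt (co p) (co q) = false)
  sq : ∀ q ∈ Q, (q * q = 1 ↔ qW (co q) = false)
  co_om : ∀ g, Commute g d → ∀ q ∈ Q, ∀ q' ∈ Q, co q' = om (co q) → co (cj g q') = om (co (cj g q))
  faithful : ∀ g, Commute g d → (∀ q ∈ Q, co (cj g q) = co q) → g ∈ Q
  A : Subgroup G
  A_sq : ∀ a ∈ A, a * a = 1
  dA : d ∈ A
  A_Q : ∀ q ∈ Q, (q ∈ A ↔ flat (co q) = true)
  has : ∀ p : W, flat p = true → p ≠ 0 → ∃ a ∈ A, IsConj d a ∧ ∀ q ∈ Q, co (cj a q) = tv p (co q)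
  only : ∀ a ∈ A, IsConj d a → a = d ∨
    ∃ p : W, flat p = true ∧ p ≠ 0 ∧ ∀ q ∈ Q, co (cj a q) = tv p (co q)
  ad_not : ∀ a ∈ A, IsConj d a → ¬ IsConj d (a * d)
  move : ∀ p r : W, iso p = true → iso r = true → perp r p = true → onLine p r = false →
    ∃ g, Commute g d ∧ (∀ q ∈ Q, co q = p → flat (co (cj g q)) = true) ∧
      ∀ q ∈ Q, co q = r → flat (co (cj g q)) = true
  card_le : Nat.card ↥(Subgroup.centralizer ({d} : Set G)) ≤ 512 * 25920

namespace Hyp

variable {d : G}

/-- The data pass along an automorphism. -/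
def map (h : Hyp d) (e : G ≃* G) : Hyp (e d) where
  ord := by rw [MulEquiv.orderOf_eq]; exact h.ord
  Q := h.Q.comap e.symm.toMonoidHom
  Q_le q hq := by
    have := (h.Q_le _ hq).map e.toMonoidHom
    simpa using this
  dQ := show e.symm (e d) ∈ h.Q by rw [e.symm_apply_apply]; exact h.dQ
  Q_norm g hg q hq := by
    show e.symm (cj g q) ∈ h.Q
    have := h.Q_norm (e.symm g) (by simpa using hg.map e.symm.toMonoidHom) _ hq
    simpa [cj] using this
  co x := h.co (e.symm x)
  co_mul p hp q hq := by rw [map_mul]; exact h.co_mul _ hp _ hq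
  co_surj x := by
    obtain ⟨q, hq, e'⟩ := h.co_surj x
    exact ⟨e q, show e.symm (e q) ∈ h.Q by rwa [e.symm_apply_apply], by simpa using e'⟩
  co_ker q hq := by
    show h.co (e.symm q) = 0 ↔ _
    rw [h.co_ker _ (show e.symm q ∈ h.Q from hq), map_eq_one_iff _ e.symm.injective, e.symm_apply_eq]
  comm p hp q hq := by
    show p * q = q * p ↔ bt (h.co (e.symm p)) (h.co (e.symm q)) = false
    rw [← h.comm _ (show e.symm p ∈ h.Q from hp) _ (show e.symm q ∈ h.Q from hq), ← map_mul, ← map_mul,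
      e.symm.injective.eq_iff]
  sq q hq := by
    show q * q = 1 ↔ qW (h.co (e.symm q)) = false
    rw [← h.sq _ (show e.symm q ∈ h.Q from hq), ← map_mul, map_eq_one_iff _ e.symm.injective]
  co_om g hg q hq q' hq' e' := by
    have := h.co_om (e.symm g) (by simpa using hg.map e.symm.toMonoidHom) _ hq _ hq' e'
    simpa [cj] using this
  faithful g hg hfix := by
    refine h.faithful (e.symm g) (by simpa using hg.map e.symm.toMonoidHom) fun q hq => ?_
    have := hfix (e q) (show e.symm (e q) ∈ h.Q by rwa [e.symm_apply_apply])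
    simpa [cj] using this
  A := h.A.comap e.symm.toMonoidHom
  A_sq a ha := e.symm.injective (by rw [map_mul, h.A_sq _ (show e.symm a ∈ h.A from ha), map_one])
  dA := show e.symm (e d) ∈ h.A by rw [e.symm_apply_apply]; exact h.dA
  A_Q q hq := h.A_Q _ hq
  has p hp hp0 := by
    obtain ⟨a, ha, hc, hact⟩ := h.has p hp hp0
    refine ⟨e a, show e.symm (e a) ∈ h.A by rwa [e.symm_apply_apply], e.toMonoidHom.map_isConj hc, fun q hq => ?_⟩
    have := hact _ hq
    simpa [cj] using this
  only a ha hc := by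
    have hc' : IsConj d (e.symm a) := by simpa using e.symm.toMonoidHom.map_isConj hc
    rcases h.only _ ha hc' with k | ⟨p, hp, hp0, hact⟩
    · exact Or.inl (e.symm_apply_eq.1 k)
    · refine Or.inr ⟨p, hp, hp0, fun q hq => ?_⟩
      have := hact _ hq
      simpa [cj] using this
  ad_not a ha hc k := by
    have hc' : IsConj d (e.symm a) := by simpa using e.symm.toMonoidHom.map_isConj hc
    exact h.ad_not _ ha hc' (by simpa using e.symm.toMonoidHom.map_isConj k)
  move p r hp hr hpr hl := by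
    obtain ⟨g, hg, h1, h2⟩ := h.move p r hp hr hpr hl
    refine ⟨e g, hg.map e.toMonoidHom, fun q hq k => ?_, fun q hq k => ?_⟩
    · have := h1 _ hq k
      simpa [cj] using this
    · have := h2 _ hq k
      simpa [cj] using this
  card_le := by
    refine le_trans (le_of_eq ?_) h.card_le
    refine Nat.card_congr ((e.symm.toEquiv).subtypeEquiv fun x => ?_)
    rw [Subgroup.mem_centralizer_singleton_iff, Subgroup.mem_centralizer_singleton_iff]
    refine ⟨fun k => by simpa using congrArg e.symm k, fun k => ?_⟩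
    have := congrArg e k
    simpa using this

/-- The data at any conjugate. -/
theorem exists_at (h : Hyp d) {a : G} (ha : a ∈ Dc d) : Nonempty (Hyp a) := by
  obtain ⟨g, rfl⟩ := isConj_iff.1 ha
  exact ⟨h.map (MulAut.conj g)⟩

variable (h : Hyp d)
include h

theorem dd : d * d = 1 := by rw [← pow_two]; exact h.ord ▸ pow_orderOf_eq_one d

theorem d_ne_one : d ≠ 1 := fun e => by
  have := h.ord
  rw [e, orderOf_one] at this
  omega

theorem d_inv : d⁻¹ = d := inv_eq_of_mul_eq_one_right h.dd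

theorem sq_one {x : G} (hx : x ∈ Dc d) : x * x = 1 := by
  obtain ⟨g, rfl⟩ := isConj_iff.1 hx
  show cj g d * cj g d = 1
  rw [← cj_mul, h.dd]
  simp [cj]

theorem inv_self {x : G} (hx : x ∈ Dc d) : x⁻¹ = x := inv_eq_of_mul_eq_one_right (h.sq_one hx)

theorem A_inv {a : G} (ha : a ∈ h.A) : a⁻¹ = a := inv_eq_of_mul_eq_one_right (h.A_sq a ha)

theorem A_comm {a b : G} (ha : a ∈ h.A) (hb : b ∈ h.A) : Commute a b := by
  show a * b = b * a
  calc a * b = (a * b)⁻¹ := (h.A_inv (mul_mem ha hb)).symm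
    _ = b * a := by rw [mul_inv_rev, h.A_inv ha, h.A_inv hb]

theorem A_cd {a : G} (ha : a ∈ h.A) : Commute a d := h.A_comm ha h.dA

/-! ### The action -/

theorem co_one : h.co 1 = 0 := (h.co_ker 1 (one_mem _)).2 (Or.inl rfl)

theorem co_d : h.co d = 0 := (h.co_ker d h.dQ).2 (Or.inr rfl)

theorem co_inv {q : G} (hq : q ∈ h.Q) : h.co q⁻¹ = h.co q := by
  have := h.co_mul q hq q⁻¹ (inv_mem hq)
  rw [mul_inv_cancel, h.co_one, eq_comm, W.add_eq_zero'] at this
  exact this.symm

theorem co_eq {p q : G} (hp : p ∈ h.Q) (hq : q ∈ h.Q) (e : h.co p = h.co q) : q = p ∨ q = p * d := by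
  have : h.co (p⁻¹ * q) = 0 := by rw [h.co_mul _ (inv_mem hp) _ hq, h.co_inv hp, e, W.add_self]
  rcases (h.co_ker _ (mul_mem (inv_mem hp) hq)).1 this with k | k
  · exact Or.inl (inv_mul_eq_one.1 k).symm
  · exact Or.inr (inv_mul_eq_iff_eq_mul.1 k)

/-- A lift of a vector. -/
noncomputable def sec (x : W) : G := (h.co_surj x).choose

theorem sec_mem (x : W) : h.sec x ∈ h.Q := (h.co_surj x).choose_spec.1

theorem co_sec (x : W) : h.co (h.sec x) = x := (h.co_surj x).choose_spec.2

/-- The action on vectors. -/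
noncomputable def act (g : G) (x : W) : W := h.co (cj g (h.sec x))

theorem act_co {g : G} (hg : Commute g d) {q : G} (hq : q ∈ h.Q) : h.co (cj g q) = h.act g (h.co q) := by
  rcases h.co_eq (h.sec_mem (h.co q)) hq (h.co_sec _) with k | k
  · conv_lhs => rw [k]
    rfl
  · conv_lhs => rw [k]
    rw [cj_mul, cj_eq_self.2 hg, h.co_mul _ (h.Q_norm g hg _ (h.sec_mem _)) _ h.dQ, h.co_d, add_zero]
    rfl

theorem act_eq_of {g : G} (hg : Commute g d) {f : W → W} (hf : ∀ q ∈ h.Q, h.co (cj g q) = f (h.co q)) (x : W) :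
    h.act g x = f x := by
  rw [← h.co_sec x, ← h.act_co hg (h.sec_mem x), hf _ (h.sec_mem x)]

theorem act_mul {g k : G} (hg : Commute g d) (hk : Commute k d) (x : W) :
    h.act (g * k) x = h.act g (h.act k x) := by
  show h.co (cj (g * k) _) = h.act g (h.co (cj k _))
  rw [← h.act_co hg (h.Q_norm k hk _ (h.sec_mem x)), cj_cj]

theorem act_one (x : W) : h.act 1 x = x := by rw [act, cj_one, h.co_sec]

theorem act_inv {g : G} (hg : Commute g d) (x : W) : h.act g⁻¹ (h.act g x) = x := by
  rw [← h.act_mul hg.inv_left hg, inv_mul_cancel, h.act_one]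

theorem act_add {g : G} (hg : Commute g d) (x y : W) : h.act g (x + y) = h.act g x + h.act g y := by
  obtain ⟨p, hp, rfl⟩ := h.co_surj x
  obtain ⟨q, hq, rfl⟩ := h.co_surj y
  rw [← h.co_mul p hp q hq, ← h.act_co hg (mul_mem hp hq), cj_mul,
    h.co_mul _ (h.Q_norm g hg p hp) _ (h.Q_norm g hg q hq), h.act_co hg hp, h.act_co hg hq]

theorem act_zero {g : G} (hg : Commute g d) : h.act g 0 = 0 := by
  have := h.act_add hg 0 0
  rw [add_zero] at this
  exact left_eq_add.1 this

theorem act_ne {g : G} (hg : Commute g d) {x : W} (hx : x ≠ 0) : h.act g x ≠ 0 := fun e => hx (by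
  rw [← h.act_inv hg x, e, h.act_zero hg.inv_left])

theorem act_om {g : G} (hg : Commute g d) (x : W) : h.act g (om x) = om (h.act g x) := by
  obtain ⟨p, hp, rfl⟩ := h.co_surj x
  obtain ⟨q, hq, e⟩ := h.co_surj (om (h.co p))
  rw [← e, ← h.act_co hg hq, ← h.act_co hg hp, h.co_om g hg p hp q hq e]

theorem act_qW {g : G} (hg : Commute g d) (x : W) : qW (h.act g x) = qW x := by
  obtain ⟨p, hp, rfl⟩ := h.co_surj x
  rw [← h.act_co hg hp, Bool.eq_iff_iff]
  have e1 := h.sq p hp
  have e2 := h.sq _ (h.Q_norm g hg p hp)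
  rw [← cj_mul] at e2
  have e3 : cj g (p * p) = 1 ↔ p * p = 1 :=
    ⟨fun k => cj_inj (g := g) (k.trans (by simp [cj])), fun k => by rw [k]; simp [cj]⟩
  rw [e3, e1] at e2
  cases h1 : qW (h.co p) <;> cases h2 : qW (h.co (cj g p)) <;> simp [h1, h2] at e2 ⊢

theorem act_bt {g : G} (hg : Commute g d) (x y : W) : bt (h.act g x) (h.act g y) = bt x y := by
  have a := qW_add (h.act g x) (h.act g y)
  rw [← h.act_add hg, h.act_qW hg, h.act_qW hg, h.act_qW hg, qW_add] at a
  revert a
  cases qW x <;> cases qW y <;> cases bt (h.act g x) (h.act g y) <;> cases bt x y <;> simp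

theorem act_perp {g : G} (hg : Commute g d) {x y : W} (k : perp x y = true) :
    perp (h.act g x) (h.act g y) = true := by
  rw [perp_iff] at k ⊢
  rwa [← h.act_om hg, h.act_bt hg, h.act_bt hg]

theorem act_perp_iff {g : G} (hg : Commute g d) {x y : W} :
    perp (h.act g x) (h.act g y) = perp x y := by
  simp only [perp, ← h.act_om hg, h.act_bt hg]

theorem act_iso {g : G} (hg : Commute g d) {x : W} (k : iso x = true) : iso (h.act g x) = true :=
  iso_iff.2 ⟨(h.act_qW hg x).trans (iso_iff.1 k).1, h.act_ne hg (iso_iff.1 k).2⟩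

theorem act_onLine {g : G} (hg : Commute g d) {p x : W} (k : onLine p x = true) :
    onLine (h.act g p) (h.act g x) = true := by
  rcases onLine_iff.1 k with rfl | rfl | rfl | rfl
  · rw [h.act_zero hg]; exact onLine_zero _
  · exact onLine_self _
  · rw [h.act_om hg]; exact onLine_iff.2 (Or.inr (Or.inr (Or.inl rfl)))
  · rw [h.act_add hg, h.act_om hg]; exact onLine_iff.2 (Or.inr (Or.inr (Or.inr rfl)))

theorem act_onLine_false {g : G} (hg : Commute g d) {p x : W} (k : onLine p x = false) :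
    onLine (h.act g p) (h.act g x) = false := Bool.eq_false_iff.2 fun e => by
  have := h.act_onLine hg.inv_left e
  rw [h.act_inv hg, h.act_inv hg, k] at this
  exact Bool.noConfusion this

theorem act_tv {g : G} (hg : Commute g d) (p x : W) :
    h.act g (tv p x) = tv (h.act g p) (h.act g x) := by
  simp only [tv, h.act_add hg, ← h.act_om hg, h.act_bt hg]
  cases bt x (om p) <;> cases bt x p <;> simp [h.act_zero hg]

theorem act_Q {q : G} (hq : q ∈ h.Q) (x : W) : h.act q x = x := by
  rw [act, cj, h.co_mul _ (mul_mem hq (h.sec_mem x)) _ (inv_mem hq), h.co_mul _ hq _ (h.sec_mem x),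
    h.co_inv hq, h.co_sec, add_comm (h.co q) x, add_assoc, W.add_self, add_zero]

theorem mem_Q_of_act {g : G} (hg : Commute g d) (k : ∀ x, h.act g x = x) : g ∈ h.Q :=
  h.faithful g hg fun q hq => by rw [h.act_co hg hq, k]

theorem act_cj {g x : G} (hg : Commute g d) (hx : Commute x d) (y : W) :
    h.act (cj g x) y = h.act g (h.act x (h.act g⁻¹ y)) := by
  rw [cj, h.act_mul (hg.mul_left hx) hg.inv_left, h.act_mul hg hx]

theorem act_A_flat {a : G} (ha : a ∈ h.A) {x : W} (hx : flat x = true) : h.act a x = x := by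
  obtain ⟨q, hq, rfl⟩ := h.co_surj x
  rw [← h.act_co (h.A_cd ha) hq, cj_eq_self.2 (h.A_comm ha ((h.A_Q q hq).2 hx))]

theorem flat_act_of_line {g : G} (hg : Commute g d) {p w : W} (hp : flat (h.act g p) = true)
    (hw : onLine p w = true) : flat (h.act g w) = true := flat_line hp (h.act_onLine hg hw)

theorem exists_move {p r : W} (hp : iso p = true) (hr : iso r = true) (hpr : perp r p = true)
    (hl : onLine p r = false) :
    ∃ g, Commute g d ∧ flat (h.act g p) = true ∧ flat (h.act g r) = true := by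
  obtain ⟨g, hg, h1, h2⟩ := h.move p r hp hr hpr hl
  exact ⟨g, hg, h1 _ (h.sec_mem p) (h.co_sec p), h2 _ (h.sec_mem r) (h.co_sec r)⟩

/-! ### Members -/

/-- A conjugate commuting with the involution and acting as the transvection of a vector. -/
def Mem (p : W) (x : G) : Prop :=
  x ∈ Dc d ∧ Commute x d ∧ ∀ y, h.act x y = tv p y

/-- A member whose product with the involution is no conjugate. -/
def MemN (p : W) (x : G) : Prop := h.Mem p x ∧ x * d ∉ Dc d

theorem MemN.conj {g : G} (hg : Commute g d) {p : W} {x : G} (hx : h.MemN p x) :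
    h.MemN (h.act g p) (cj g x) := by
  obtain ⟨⟨h1, h2, h3⟩, h4⟩ := hx
  refine ⟨⟨isConj_cj g h1, commute_cj_fix hg h2, fun y => ?_⟩, fun k => h4 ?_⟩
  · rw [h.act_cj hg h2, h3, h.act_tv hg]
    have := h.act_inv hg.inv_left y
    rw [inv_inv] at this
    rw [this]
  · have e : cj g⁻¹ (cj g x * d) = x * d := by
      rw [cj_mul, cj_cj, inv_mul_cancel, cj_one, cj_eq_self.2 hg.inv_left]
    exact e ▸ isConj_cj g⁻¹ k

theorem exists_memN_flat {p : W} (hp : flat p = true) (hp0 : p ≠ 0) : ∃ a ∈ h.A, h.MemN p a := by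
  obtain ⟨a, ha, hc, hact⟩ := h.has p hp hp0
  exact ⟨a, ha, ⟨hc, h.A_cd ha, h.act_eq_of (h.A_cd ha) hact⟩, h.ad_not a ha hc⟩

theorem A_member {a : G} (ha : a ∈ h.A) (hc : a ∈ Dc d) : a = d ∨ ∃ p, flat p = true ∧ p ≠ 0 ∧ h.MemN p a := by
  rcases h.only a ha hc with k | ⟨p, hp, hp0, hact⟩
  · exact Or.inl k
  · exact Or.inr ⟨p, hp, hp0, ⟨hc, h.A_cd ha, h.act_eq_of (h.A_cd ha) hact⟩, h.ad_not a ha hc⟩

/-- A member commutes with the lifts of the vectors orthogonal to its centre. -/
theorem MemN.comm_Q {p : W} {x : G} (hp : p ≠ 0) (hx : h.MemN p x) {q : G} (hq : q ∈ h.Q)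
    (k : perp (h.co q) p = true) : Commute q x := by
  obtain ⟨⟨h1, h2, h3⟩, h4⟩ := hx
  have hq' := h.Q_norm x h2 q hq
  rcases h.co_eq hq hq' (by rw [h.act_co h2 hq, h3, (tv_fix hp).2 k]) with e | e
  · exact (cj_eq_self.1 e).symm
  · exfalso
    refine h4 ?_
    have e' : q⁻¹ * x * q * x⁻¹ = d := by
      rw [show q⁻¹ * x * q * x⁻¹ = q⁻¹ * cj x q by simp [cj, mul_assoc], e, inv_mul_cancel_left]
    have : cj q⁻¹ x = x * d := by
      rw [h2.eq, ← e']
      simp [cj, mul_assoc]
    exact this ▸ isConj_cj q⁻¹ h1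

/-- Two members with the same centre differ by a lift of a vector on its line. -/
theorem MemN.diff {p : W} {x y : G} (hp : iso p = true) (hx : h.MemN p x) (hy : h.MemN p y) :
    x * y ∈ h.Q ∧ onLine p (h.co (x * y)) = true := by
  have hc : Commute (x * y) d := hx.1.2.1.mul_left hy.1.2.1
  have hQ : x * y ∈ h.Q := h.mem_Q_of_act hc fun t => by
    rw [h.act_mul hx.1.2.1 hy.1.2.1, hy.1.2.2, hx.1.2.2, tv_invol hp]
  refine ⟨hQ, mem_line_of_bt hp fun u hu => ?_⟩
  have hu' : perp (h.co (h.sec u)) p = true := by rwa [h.co_sec]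
  have e : Commute (h.sec u) (x * y) :=
    (MemN.comm_Q h (iso_iff.1 hp).2 hx (h.sec_mem u) hu').mul_right
      (MemN.comm_Q h (iso_iff.1 hp).2 hy (h.sec_mem u) hu')
  have := (h.comm _ (h.sec_mem u) _ hQ).1 e
  rwa [h.co_sec] at this

theorem MemN.mem_A {p : W} {x : G} (hp : flat p = true) (hp0 : p ≠ 0) (hx : h.MemN p x) : x ∈ h.A := by
  obtain ⟨a, ha, haM⟩ := h.exists_memN_flat hp hp0
  obtain ⟨hQ, hl⟩ := MemN.diff h (flat_iso hp hp0) haM hx
  have := mul_mem ha ((h.A_Q _ hQ).2 (flat_line hp hl))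
  rwa [← mul_assoc, h.A_sq a ha, one_mul] at this

variable [Finite G]

/-- The involutions of the centraliser are conjugate into the elementary subgroup. -/
theorem conj_into {x : G} (hxd : Commute x d) (hxx : x * x = 1) :
    ∃ g, Commute g d ∧ cj g x ∈ h.A := by
  -- it suffices to treat an element of the elementary subgroup times a lift
  suffices key : ∀ y, Commute y d → y * y = 1 → (∀ u, flat (h.act y u + u) = true) →
      (∀ u, flat u = true → h.act y u = u) → ∃ g, Commute g d ∧ cj g y ∈ h.A by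
    by_cases h0 : ∀ u, h.act x u = u
    · exact key x hxd hxx (fun u => by rw [h0, W.add_self]; exact flat_zero) fun u _ => h0 u
    simp only [not_forall] at h0
    obtain ⟨u₀, hu₀⟩ := h0
    set δ := fun u => h.act x u + u with hδ
    have hinv : ∀ u, h.act x (h.act x u) = u := fun u => by
      rw [← h.act_mul hxd hxd, hxx, h.act_one]
    have hbt : ∀ u v, bt (δ u) (δ v) = false := by
      intro u v
      have e1 : bt u (h.act x v) = bt (h.act x u) v := by
        conv_lhs => rw [← hinv u]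
        exact h.act_bt hxd (h.act x u) v
      simp only [hδ, bt_add, bt_add', h.act_bt hxd, e1]
      cases bt u v <;> cases bt (h.act x u) v <;> rfl
    have hom : ∀ u, δ (om u) = om (δ u) := fun u => by simp only [hδ, om_add, h.act_om hxd]
    have hperp : ∀ u v, perp (δ u) (δ v) = true := fun u v => perp_iff.2 ⟨hbt u v, by rw [← hom]; exact hbt u _⟩
    have hq : ∀ u, qW (δ u) = false := by
      intro u
      have e1 : bt (h.act x u) (om u) = bt (h.act x (om u)) u := by
        conv_rhs => rw [bt_comm]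
        conv_lhs => rw [← hinv (om u)]
        rw [h.act_bt hxd]
      rw [h.act_om hxd, bt_om] at e1
      simp only [hδ, qW_add, h.act_qW hxd]
      revert e1
      cases qW u <;> cases bt (h.act x u) u <;> cases bt (h.act x u) (om u) <;> simp
    set p := δ u₀
    have hp : iso p = true := iso_iff.2 ⟨hq u₀, fun e => hu₀ (W.add_eq_zero'.1 e)⟩
    obtain ⟨r, hr, hrp, hrl, hrd⟩ : ∃ r, iso r = true ∧ perp r p = true ∧ onLine p r = false ∧
        ∀ u, perp (δ u) r = true := by
      by_cases hall : ∀ u, onLine p (δ u) = true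
      · obtain ⟨r, h1, h2, h3, -⟩ := exists_plane hp (perp_zero p) qW_zero
        exact ⟨r, h1, h2, h3, fun u => perp_symm (perp_of_onLine h2 (hall u))⟩
      · simp only [not_forall, Bool.not_eq_true] at hall
        obtain ⟨v, hv⟩ := hall
        exact ⟨δ v, iso_iff.2 ⟨hq v, fun e => by rw [e, onLine_zero] at hv; exact Bool.noConfusion hv⟩,
          hperp _ _, hv, fun u => hperp u v⟩
    obtain ⟨g, hg, g1, g2⟩ := h.exists_move hp hr hrp hrl
    have hyd : Commute (cj g x) d := commute_cj_fix hg hxd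
    have hfl : ∀ u, flat (h.act (cj g x) u + u) = true := by
      intro u
      have e : h.act (cj g x) u + u = h.act g (δ (h.act g⁻¹ u)) := by
        have := h.act_inv hg.inv_left u
        rw [inv_inv] at this
        rw [hδ, h.act_add hg, ← h.act_cj hg hxd, this]
      rw [e]
      exact flat_of_perp g1 (h.act_ne hg (iso_iff.1 hp).2) g2 (h.act_onLine_false hg hrl)
        (h.act_perp hg (hperp _ _)) (h.act_perp hg (hrd _))
    have hyy : cj g x * cj g x = 1 := by rw [← cj_mul, hxx]; simp [cj]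
    obtain ⟨k, hk, hkA⟩ := key (cj g x) hyd hyy hfl fun u hu => by
      refine W.add_eq_zero'.1 (nondeg fun v => ?_)
      have e1 : bt u (h.act (cj g x) v + v) = false := (flat_facts hu (hfl v)).2.2.1
      have e2 : bt u (h.act (cj g x) v) = bt (h.act (cj g x) u) v := by
        have : h.act (cj g x) (h.act (cj g x) u) = u := by rw [← h.act_mul hyd hyd, hyy, h.act_one]
        conv_lhs => rw [← this]
        exact h.act_bt hyd (h.act (cj g x) u) v
      rw [bt_add', e2] at e1
      rw [bt_add]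
      exact e1
    exact ⟨k * g, hk.mul_left hg, by rwa [← cj_cj]⟩
  intro y hyd hyy hfl hfix
  obtain ⟨p, r, hp, hr, hg⟩ := unipotent (g := h.act y) (h.act_add hyd) (h.act_om hyd) (h.act_qW hyd) hfix hfl
  -- a lift of an isotropic vector orthogonal to a centre
  have single : ∀ a s : W, flat s = true → s ≠ 0 → ∀ q ∈ h.Q, ∀ m, h.MemN s m → m ∈ h.A → h.co q = a →
      y = m * q → ∃ g, Commute g d ∧ cj g y ∈ h.A := by
    intro a s hs hs0 q hq m hm hmA hqa hy
    have hsi := flat_iso hs hs0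
    have hperp : perp (h.co q) s = true := by
      rw [← tv_fix hs0]
      have e : cj m q * q = 1 := by
        rw [cj, h.A_inv hmA, ← hy, mul_assoc]
        conv_lhs => arg 2; rw [← hy]
        exact hyy
      have e' := congrArg h.co e
      rwa [h.co_mul _ (h.Q_norm m hm.1.2.1 q hq) _ hq, h.co_one, W.add_eq_zero', h.act_co hm.1.2.1 hq,
        hm.1.2.2] at e'
    have hc : Commute q m := MemN.comm_Q h hs0 hm hq hperp
    have hqq : q * q = 1 := by
      rw [hy] at hyy
      calc q * q = m * m * (q * q) := by rw [h.A_sq m hmA, one_mul]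
        _ = m * q * (m * q) := by simp only [mul_assoc]; rw [← mul_assoc q m, hc.eq, mul_assoc]
        _ = 1 := hyy
    obtain ⟨t, ht, htp, htl, hw⟩ := exists_plane hsi hperp ((h.sq q hq).1 hqq)
    obtain ⟨g, hg, g1, g2⟩ := h.exists_move hsi ht htp htl
    refine ⟨g, hg, ?_⟩
    rw [hy, cj_mul]
    refine mul_mem (MemN.mem_A h g1 (h.act_ne hg hs0) (MemN.conj h hg hm)) ((h.A_Q _ (h.Q_norm g hg q hq)).2 ?_)
    rw [h.act_co hg hq]
    rcases hw with k | k
    · exact h.flat_act_of_line hg g1 k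
    · rw [k]; exact g2
  -- the lift of the trivial map
  have trivialCase : (∀ u, h.act y u = u) → ∃ g, Commute g d ∧ cj g y ∈ h.A := by
    intro k
    have hQ := h.mem_Q_of_act hyd k
    by_cases h0 : flat (h.co y) = true
    · exact ⟨1, Commute.one_left d, by rw [cj_one]; exact (h.A_Q y hQ).2 h0⟩
    have hi : iso (h.co y) = true := iso_iff.2 ⟨(h.sq y hQ).1 hyy, fun e => h0 (by rw [e]; exact flat_zero)⟩
    obtain ⟨t, ht, htp, htl, -⟩ := exists_plane hi (perp_zero _) qW_zero
    obtain ⟨g, hg, g1, -⟩ := h.exists_move hi ht htp htl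
    exact ⟨g, hg, (h.A_Q _ (h.Q_norm g hg y hQ)).2 (by rw [h.act_co hg hQ]; exact g1)⟩
  have oneCase : ∀ s, flat s = true → s ≠ 0 → (∀ u, h.act y u = tv s u) → ∃ g, Commute g d ∧ cj g y ∈ h.A := by
    intro s hs hs0 k
    obtain ⟨m, hmA, hm⟩ := h.exists_memN_flat hs hs0
    have hc : Commute (m * y) d := hm.1.2.1.mul_left hyd
    have hQ : m * y ∈ h.Q := h.mem_Q_of_act hc fun u => by
      rw [h.act_mul hm.1.2.1 hyd, k, hm.1.2.2, tv_invol (flat_iso hs hs0)]
    exact single _ s hs hs0 _ hQ m hm hmA rfl (by rw [← mul_assoc, h.A_sq m hmA, one_mul])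
  by_cases hr0 : r = 0
  · have k : ∀ u, h.act y u = tv p u := fun u => by rw [hg, hr0, tv_zero]
    by_cases hp0 : p = 0
    · exact trivialCase fun u => by rw [k, hp0, tv_zero]
    · exact oneCase p hp hp0 k
  by_cases hp0 : p = 0
  · exact oneCase r hr hr0 fun u => by rw [hg, hp0, tv_zero]
  by_cases hl : onLine p r = true
  · exact trivialCase fun u => by
      rw [hg, ← tv_same (flat_iso hp hp0) hr0 hl, tv_invol (flat_iso hp hp0)]
  obtain ⟨a, haA, ha⟩ := h.exists_memN_flat hp hp0
  obtain ⟨b, hbA, hb⟩ := h.exists_memN_flat hr hr0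
  have habd := h.A_cd (mul_mem haA hbA)
  set q := a * b * y with hq
  have hQ : q ∈ h.Q := h.mem_Q_of_act (habd.mul_left hyd) fun u => by
    rw [h.act_mul habd hyd, h.act_mul ha.1.2.1 hb.1.2.1, hg, hb.1.2.2, ha.1.2.2,
      tv_comm (flat_iso hp hp0) (flat_iso hr hr0) (flat_perp hp hr), tv_invol (flat_iso hp hp0),
      tv_invol (flat_iso hr hr0)]
  have hy : y = a * b * q := by rw [hq, ← mul_assoc, h.A_sq _ (mul_mem haA hbA), one_mul]
  refine ⟨1, Commute.one_left d, ?_⟩
  rw [cj_one, hy]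
  refine mul_mem (mul_mem haA hbA) ((h.A_Q q hQ).2 ?_)
  have hfixq : h.act y (h.co q) = h.co q := by
    have e : cj (a * b) q * q = 1 := by
      rw [cj, h.A_inv (mul_mem haA hbA), ← hy, mul_assoc]
      conv_lhs => arg 2; rw [← hy]
      exact hyy
    have e' := congrArg h.co e
    rw [h.co_mul _ (h.Q_norm _ habd q hQ) _ hQ, h.co_one, W.add_eq_zero', h.act_co habd hQ] at e'
    rw [hy, h.act_mul habd (h.Q_le q hQ), h.act_Q hQ, e']
  rw [hg] at hfixq
  set w := h.co q
  have hpi := flat_iso hp hp0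
  have hri := flat_iso hr hr0
  rw [tv_tv hpi (flat_perp hr hp), add_assoc, add_eq_left, W.add_eq_zero'] at hfixq
  have hz : tv p w + w = 0 := by
    by_contra hne
    have h2 := tv_line r w
    rw [← hfixq] at h2
    rw [onLine_meet (tv_line p w) h2 hne hp0] at hl
    exact hl rfl
  rw [hz] at hfixq
  exact flat_of_perp hp hp0 hr (Bool.eq_false_iff.2 hl) ((tv_fix hp0).1 (W.add_eq_zero'.1 hz))
    ((tv_fix hr0).1 (W.add_eq_zero'.1 hfixq.symm))

/-- The conjugates commuting with the involution. -/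
theorem cases_cd {x : G} (hx : x ∈ Dc d) (hxd : Commute x d) : x = d ∨ ∃ p, iso p = true ∧ h.MemN p x := by
  obtain ⟨g, hg, hgA⟩ := h.conj_into hxd (h.sq_one hx)
  rcases h.A_member hgA (isConj_cj g hx) with e | ⟨p, hp, hp0, hM⟩
  · left
    exact cj_inj (g := g) (e.trans (cj_eq_self.2 hg).symm)
  · right
    refine ⟨h.act g⁻¹ p, h.act_iso hg.inv_left (flat_iso hp hp0), ?_⟩
    have := MemN.conj h hg.inv_left hM
    rwa [cj_cj, inv_mul_cancel, cj_one] at this

theorem mul_d_not {x : G} (hx : x ∈ Dc d) (hxd : Commute x d) : x * d ∉ Dc d := by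
  rcases h.cases_cd hx hxd with rfl | ⟨p, -, hM⟩
  · rw [h.dd]
    intro k
    exact h.d_ne_one (isConj_one_left.1 k)
  · exact hM.2

theorem memN_of_mem {p : W} {x : G} (hx : h.Mem p x) : h.MemN p x := ⟨hx, h.mul_d_not hx.1 hx.2.1⟩

/-- Every point is the centre of a member. -/
theorem exists_mem {p : W} (hp : iso p = true) : ∃ x, h.MemN p x := by
  obtain ⟨r, hr, hrp, hrl, -⟩ := exists_plane hp (perp_zero p) qW_zero
  obtain ⟨g, hg, g1, -⟩ := h.exists_move hp hr hrp hrl
  obtain ⟨a, -, ha⟩ := h.exists_memN_flat g1 (h.act_ne hg (iso_iff.1 hp).2)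
  refine ⟨cj g⁻¹ a, ?_⟩
  have := MemN.conj h hg.inv_left ha
  rwa [h.act_inv hg] at this

theorem MemN.unique {p r : W} {x : G} (hp : iso p = true) (hx : h.MemN p x) (hx' : h.MemN r x) :
    onLine p r = true := tv_eq_iff hp fun u => by rw [← hx.1.2.2, hx'.1.2.2]

theorem MemN.not_Q {p : W} {x : G} (hp : iso p = true) (hx : h.MemN p x) : x ∉ h.Q := fun k => by
  obtain ⟨u, hu⟩ : ∃ u, perp u p = false := by
    by_contra hn
    simp only [not_exists, Bool.not_eq_false] at hn
    exact (iso_iff.1 hp).2 (nondeg fun y => by rw [bt_comm]; exact (perp_iff.1 (hn y)).1)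
  refine tv_move (iso_iff.1 hp).2 hu (W.add_eq_zero'.2 ?_)
  rw [← hx.1.2.2, h.act_Q k]

theorem MemN.mem_nbr {p : W} {x : G} (hp : iso p = true) (hx : h.MemN p x) : x ∈ nbr (Dc d) d :=
  ⟨hx.1.1, fun e => MemN.not_Q h hp hx (e ▸ h.dQ), hx.1.2.1.symm⟩

theorem mem_nbr_iff {x : G} : x ∈ nbr (Dc d) d ↔ ∃ p, iso p = true ∧ h.MemN p x :=
  ⟨fun hx => (h.cases_cd hx.1 hx.2.2.symm).resolve_left hx.2.1, fun ⟨_, hp, hx⟩ => MemN.mem_nbr h hp hx⟩

/-- Members commute exactly when their centres are orthogonal. -/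
theorem MemN.commute_iff {p r : W} {x y : G} (hp : iso p = true) (hr : iso r = true) (hx : h.MemN p x)
    (hy : h.MemN r y) : Commute x y ↔ perp p r = true := by
  constructor
  · intro k
    refine tv_comm_iff hp hr fun u => ?_
    rw [← hx.1.2.2, ← hy.1.2.2, ← hy.1.2.2, ← hx.1.2.2, ← h.act_mul hx.1.2.1 hy.1.2.1,
      ← h.act_mul hy.1.2.1 hx.1.2.1, k.eq]
  · intro k
    obtain ⟨r', h1, h2, h3, hw⟩ := exists_plane hp (perp_symm k) (iso_iff.1 hr).1
    obtain ⟨g, hg, g1, g2⟩ := h.exists_move hp h1 h2 h3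
    have e2 : flat (h.act g r) = true := by
      rcases hw with w | w
      · exact h.flat_act_of_line hg g1 w
      · rw [w]; exact g2
    have := h.A_comm (MemN.mem_A h g1 (h.act_ne hg (iso_iff.1 hp).2) (MemN.conj h hg hx))
      (MemN.mem_A h e2 (h.act_ne hg (iso_iff.1 hr).2) (MemN.conj h hg hy))
    have := commute_cj (g := g⁻¹) this
    rwa [cj_cj, cj_cj, inv_mul_cancel, cj_one, cj_one] at this

end Hyp

end CfsgLib.ThreeTrans.UCent
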