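import Mathlib
import Cfsg.Agent.Lib.ThreeTrans.UCent.Setup

/-! The `180` conjugates commuting with the involution: four over each of the forty-five points, two of
them commuting exactly when the points are orthogonal and generating `S₃` otherwise. -/

set_option autoImplicit false
set_option linter.unusedSectionVars false
set_option maxRecDepth 100000
set_option Elab.async false

namespace CfsgLib.ThreeTrans.UCent

open CfsgLib.ThreeTrans.LocalSymThree (nbr)

universe u

theorem braid_check : allI (fun p => allI fun r => perp p r || onLine (tv p r) (tv r p)) = true := by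
  decide +kernel

theorem card_line {p : W} (hp : p ≠ 0) : {w : W | onLine p w = true}.ncard = 4 := by
  classical
  have h1 := om_ne hp
  have h3 : p ≠ om p := fun e => hp (by
    have := om_om p
    rw [← e, W.add_self, ← e] at this
    exact this)
  have h4 : p + om p ≠ 0 := fun e => h3 (W.add_eq_zero'.1 e)
  have e : {w : W | onLine p w = true} = ↑({0, p, om p, p + om p} : Finset W) := by
    ext w; simp [onLine_iff]
  rw [e, Set.ncard_coe_finset]
  have d1 : p ≠ p + om p := fun k => h1 (left_eq_add.1 k)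
  have d2 : om p ≠ p + om p := fun k => hp (right_eq_add.1 k)
  simp [Finset.card_insert_of_notMem, Ne.symm hp, Ne.symm h1, Ne.symm h4, h3, d1, d2]

variable {G : Type u} [Group G] [Finite G] {d : G}

/-- The same centre below the involution. -/
def Same (d x y : G) : Prop :=
  x ∈ nbr (Dc d) d ∧ y ∈ nbr (Dc d) d ∧ ∀ w ∈ nbr (Dc d) d, Commute w x ↔ Commute w y

namespace Hyp

variable (h : Hyp d)
include h

theorem nbr_iff_pt {x : G} : x ∈ nbr (Dc d) d ↔ ∃ s : Pt, h.MemN s.1 x := by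
  rw [h.mem_nbr_iff]
  constructor
  · rintro ⟨p, hp, hx⟩
    obtain ⟨s, hs, -⟩ := exists_pt hp
    refine ⟨s, h.memN_of_mem ⟨hx.1.1, hx.1.2.1, fun y => ?_⟩⟩
    rw [hx.1.2.2, tv_same s.iso (iso_iff.1 hp).2 hs]
  · rintro ⟨s, hs⟩
    exact ⟨s.1, s.iso, hs⟩

theorem pt_unique {s t : Pt} {x : G} (h1 : h.MemN s.1 x) (h2 : h.MemN t.1 x) : s = t :=
  Pt.eq_of_line (MemN.unique h s.iso h1 h2)

theorem card_fibre (s : Pt) : {x | h.MemN s.1 x}.ncard = 4 := by
  classical
  obtain ⟨a, ha⟩ := h.exists_mem s.iso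
  set p := s.1 with hp
  have had := ha.1.2.1
  rw [← card_line s.ne_zero]
  refine Set.BijOn.ncard_eq (f := fun x => h.co (a * x)) ⟨fun x hx => (MemN.diff h s.iso ha hx).2, ?_, ?_⟩
  · intro x hx y hy e
    rcases h.co_eq (MemN.diff h s.iso ha hx).1 (MemN.diff h s.iso ha hy).1 e with k | k
    · exact (mul_left_cancel k).symm
    · exfalso
      rw [mul_assoc] at k
      exact hx.2 (mul_left_cancel k ▸ hy.1.1)
  intro w hw
  obtain ⟨u, hu⟩ : ∃ u, perp u p = false := by
    by_contra hn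
    simp only [not_exists, Bool.not_eq_false] at hn
    exact s.ne_zero (nondeg fun y => by rw [bt_comm]; exact (perp_iff.1 (hn y)).1)
  set δ := fun v => tv p v + v with hδ
  have hval : ∀ v, ∃ x, h.MemN p x ∧ h.co (a * x) = δ v := by
    intro v
    obtain ⟨q, hq, rfl⟩ := h.co_surj v
    have hqd := h.Q_le q hq
    refine ⟨cj q a, ?_, ?_⟩
    · have := MemN.conj h hqd ha
      rwa [h.act_Q hq] at this
    · have e : a * cj q a = cj a q * q⁻¹ := by
        simp only [cj, h.inv_self ha.1.1]; group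
      rw [e, h.co_mul _ (h.Q_norm a had q hq) _ (inv_mem hq), h.co_inv hq, h.act_co had hq, ha.1.2.2]
  have hy0 : δ u ≠ 0 := tv_move s.ne_zero hu
  have hl : onLine (δ u) w = true :=
    onLine_trans (tv_line p u) hw hy0
  have hδom : δ (om u) = om (δ u) := by
    simp only [hδ, om_add]
    rw [← ha.1.2.2, ← ha.1.2.2, h.act_om had]
  have hδadd : δ (u + om u) = δ u + δ (om u) := by
    simp only [hδ, tv_add]; abel
  have hδ0 : δ 0 = 0 := by simp [hδ, tv, bt_zero]
  obtain ⟨v, hv⟩ : ∃ v, δ v = w := by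
    rcases onLine_iff.1 hl with k | k | k | k
    · exact ⟨0, by rw [hδ0, k]⟩
    · exact ⟨u, k.symm⟩
    · exact ⟨om u, by rw [hδom, k]⟩
    · exact ⟨u + om u, by rw [hδadd, hδom, k]⟩
  obtain ⟨x, hx, e⟩ := hval v
  exact ⟨x, hx, e.trans hv⟩

/-- The members with centre in a set of points. -/
theorem card_sel (f : Pt → Prop) [DecidablePred f] :
    {x | ∃ s : Pt, f s ∧ h.MemN s.1 x}.ncard = 4 * (Finset.univ.filter f).card := by
  classical
  let _ : Fintype G := Fintype.ofFinite G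
  have e : {x | ∃ s : Pt, f s ∧ h.MemN s.1 x} =
      ↑((Finset.univ.filter f).biUnion fun s => {x | h.MemN s.1 x}.toFinset) := by
    ext x; simp
  rw [e, Set.ncard_coe_finset, Finset.card_biUnion]
  · rw [Finset.sum_const_nat fun s _ => ?_, mul_comm]
    rw [← Set.ncard_eq_toFinset_card', h.card_fibre]
  · intro s _ t _ hst
    rw [Function.onFun, Finset.disjoint_left]
    intro x hx hx'
    exact hst (h.pt_unique (by simpa using hx) (by simpa using hx'))

theorem card_nbr : (nbr (Dc d) d).ncard = 180 := by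
  classical
  have e : nbr (Dc d) d = {x | ∃ s : Pt, True ∧ h.MemN s.1 x} := by
    ext x; simp [h.nbr_iff_pt]
  rw [e, h.card_sel fun _ => True, Finset.filter_true, Finset.card_univ, ← Nat.card_eq_fintype_card, card_pt]

theorem comm_pt {s t : Pt} {x y : G} (hx : h.MemN s.1 x) (hy : h.MemN t.1 y) :
    Commute x y ↔ perp s.1 t.1 = true :=
  MemN.commute_iff h s.iso t.iso hx hy

theorem card_two {a : G} (ha : a ∈ nbr (Dc d) d) :
    (nbr (Dc d) d ∩ {w | w ≠ a ∧ Commute w a}).ncard = 51 := by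
  classical
  obtain ⟨t, ht⟩ := h.nbr_iff_pt.1 ha
  have e : nbr (Dc d) d ∩ {w | w ≠ a ∧ Commute w a} =
      {x | ∃ s : Pt, perp s.1 t.1 = true ∧ h.MemN s.1 x} \ {a} := by
    ext x
    constructor
    · rintro ⟨hx, hne, hc⟩
      obtain ⟨s, hs⟩ := h.nbr_iff_pt.1 hx
      exact ⟨⟨s, (h.comm_pt hs ht).1 hc, hs⟩, hne⟩
    · rintro ⟨⟨s, hp, hs⟩, hne⟩
      exact ⟨h.nbr_iff_pt.2 ⟨s, hs⟩, hne, (h.comm_pt hs ht).2 hp⟩
  have hmem : a ∈ {x | ∃ s : Pt, perp s.1 t.1 = true ∧ h.MemN s.1 x} := ⟨t, perp_self t.iso, ht⟩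
  rw [e, Set.ncard_sdiff_singleton_of_mem hmem, h.card_sel fun s : Pt => perp s.1 t.1 = true, card_perp]

/-- The members orthogonal to two points spanning a hyperbolic line. -/
theorem card_both {a b : G} (ha : a ∈ nbr (Dc d) d) (hb : b ∈ nbr (Dc d) d) (hab : ¬ Commute a b) :
    (nbr (Dc d) d ∩ {w | Commute w a ∧ Commute w b}).ncard = 12 := by
  classical
  obtain ⟨s, hs⟩ := h.nbr_iff_pt.1 ha
  obtain ⟨t, ht⟩ := h.nbr_iff_pt.1 hb
  have hst : perp s.1 t.1 = false := Bool.eq_false_iff.2 fun k => hab ((h.comm_pt hs ht).2 k)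
  have e : nbr (Dc d) d ∩ {w | Commute w a ∧ Commute w b} =
      {x | ∃ r : Pt, (perp r.1 s.1 && perp r.1 t.1) = true ∧ h.MemN r.1 x} := by
    ext x
    constructor
    · rintro ⟨hx, h1, h2⟩
      obtain ⟨r, hr⟩ := h.nbr_iff_pt.1 hx
      exact ⟨r, Bool.and_eq_true_iff.2 ⟨(h.comm_pt hr hs).1 h1, (h.comm_pt hr ht).1 h2⟩, hr⟩
    · rintro ⟨r, hp, hr⟩
      obtain ⟨h1, h2⟩ := Bool.and_eq_true_iff.1 hp
      exact ⟨h.nbr_iff_pt.2 ⟨r, hr⟩, (h.comm_pt hr hs).2 h1, (h.comm_pt hr ht).2 h2⟩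
  rw [e, h.card_sel fun r : Pt => (perp r.1 s.1 && perp r.1 t.1) = true, card_common hst]

/-- Two members which do not commute generate `S₃`. -/
theorem braid_nbr {x y : G} (hx : x ∈ nbr (Dc d) d) (hy : y ∈ nbr (Dc d) d) (hxy : ¬ Commute x y) :
    x * y * x = y * x * y := by
  obtain ⟨p, hp, hM⟩ := h.mem_nbr_iff.1 hx
  obtain ⟨r, hr, hN⟩ := h.mem_nbr_iff.1 hy
  have hperp : perp p r = false := Bool.eq_false_iff.2 fun k => hxy ((MemN.commute_iff h hp hr hM hN).2 k)
  have hxd := hM.1.2.1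
  have hyd := hN.1.2.1
  have hx1 := h.sq_one hx.1
  have hy1 := h.sq_one hy.1
  have hline : onLine (tv p r) (tv r p) = true := by
    have := of_allI (of_allI braid_check hp) hr
    rwa [hperp, Bool.false_or] at this
  have a1 : ∀ u, h.act (x * y * x) u = tv (tv p r) u := fun u => by
    rw [h.act_mul (hxd.mul_left hyd) hxd, h.act_mul hxd hyd, hN.1.2.2, h.act_tv hxd, hM.1.2.2, hM.1.2.2, hM.1.2.2,
      tv_invol hp]
  have a2 : ∀ u, h.act (y * x * y) u = tv (tv r p) u := fun u => by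
    rw [h.act_mul (hyd.mul_left hxd) hyd, h.act_mul hyd hxd, hM.1.2.2, h.act_tv hyd, hN.1.2.2, hN.1.2.2, hN.1.2.2,
      tv_invol hr]
  have i1 : iso (tv p r) = true := by rw [← hM.1.2.2]; exact h.act_iso hxd hr
  have i2 : iso (tv r p) = true := by rw [← hN.1.2.2]; exact h.act_iso hyd hp
  set m := x * y * x * (y * x * y) with hm
  have hmd : Commute m d := ((hxd.mul_left hyd).mul_left hxd).mul_left ((hyd.mul_left hxd).mul_left hyd)
  have hmQ : m ∈ h.Q := h.mem_Q_of_act hmd fun u => by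
    rw [hm, h.act_mul ((hxd.mul_left hyd).mul_left hxd) ((hyd.mul_left hxd).mul_left hyd), a1, a2,
      ← tv_same i1 (iso_iff.1 i2).2 hline, tv_invol i1]
  have hinv : ∀ {a : G}, a * a = 1 → cj a m = m⁻¹ → Commute a d → ∀ {s : W}, iso s = true →
      (∀ u, h.act a u = tv s u) → perp (h.co m) s = true := by
    intro a _ e had s hs hact
    have := congrArg h.co e
    rw [h.act_co had hmQ, hact, h.co_inv hmQ] at this
    exact (tv_fix (iso_iff.1 hs).2).1 this
  have ix : cj x m = m⁻¹ := by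
    simp only [cj, hm, mul_inv_rev, h.inv_self hx.1, h.inv_self hy.1]
    simp [mul_assoc, ← mul_assoc x x, hx1]
  have iy : cj y m = m⁻¹ := by
    simp only [cj, hm, mul_inv_rev, h.inv_self hx.1, h.inv_self hy.1]
    simp [mul_assoc, hy1]
  have hw : h.co m = 0 := by
    refine nondeg_pair hp hr hperp (hinv hx1 ix hxd hp hM.1.2.2) (hinv hy1 iy hyd hr hN.1.2.2) fun u hu1 hu2 => ?_
    obtain ⟨q, hq, rfl⟩ := h.co_surj u
    have c1 := MemN.comm_Q h (iso_iff.1 hp).2 hM hq hu1
    have c2 := MemN.comm_Q h (iso_iff.1 hr).2 hN hq hu2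
    have cm : Commute m q :=
      (((c1.mul_right c2).mul_right c1).mul_right ((c2.mul_right c1).mul_right c2)).symm
    exact (h.comm _ hmQ _ hq).1 cm
  rcases (h.co_ker m hmQ).1 hw with k | k
  · rw [hm] at k
    rw [eq_inv_of_mul_eq_one_left k]
    simp [mul_inv_rev, h.inv_self hx.1, h.inv_self hy.1, mul_assoc]
  · exfalso
    refine hM.2 ?_
    have e : y * x * y * x * y = x * d := by
      rw [← k, hm]
      simp [mul_assoc, ← mul_assoc x x, hx1]
    have : cj (y * x) y = x * d := by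
      rw [← e, cj, mul_inv_rev, h.inv_self hx.1, h.inv_self hy.1]
      simp [mul_assoc]
    exact this ▸ isConj_cj (y * x) hy.1

theorem same_iff {x y : G} {s t : Pt} (hx : h.MemN s.1 x) (hy : h.MemN t.1 y) : Same d x y ↔ s = t := by
  constructor
  · rintro ⟨-, -, k⟩
    by_contra hne
    obtain ⟨r, hr1, hr2⟩ := exists_sep hne
    obtain ⟨w, hw⟩ := h.exists_mem r.iso
    have := (k w (MemN.mem_nbr h r.iso hw)).1 ((h.comm_pt hw hx).2 hr1)
    rw [h.comm_pt hw hy, hr2] at this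
    exact Bool.noConfusion this
  · rintro rfl
    refine ⟨MemN.mem_nbr h s.iso hx, MemN.mem_nbr h s.iso hy, fun w hw => ?_⟩
    obtain ⟨r, hr⟩ := h.nbr_iff_pt.1 hw
    rw [h.comm_pt hr hx, h.comm_pt hr hy]

/-- Below a member the involution and a member of the same centre share the centre. -/
theorem same_swap {x y : G} (hs : Same d x y) (hne : x ≠ y) : Same x d y := by
  obtain ⟨hx, hy, hiff⟩ := hs
  obtain ⟨hX⟩ := h.exists_at hx.1
  have e : Dc x = Dc d := Dc_eq hx.1
  have hcxy : Commute x y := ((hiff x hx).1 (Commute.refl x))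
  have hd' : d ∈ nbr (Dc x) x := ⟨e ▸ mem_conjugatesOf_self, hx.2.1.symm, hx.2.2.symm⟩
  have hy' : y ∈ nbr (Dc x) x := ⟨e ▸ hy.1, hne.symm, hcxy⟩
  obtain ⟨s, hsd⟩ := hX.nbr_iff_pt.1 hd'
  obtain ⟨t, hty⟩ := hX.nbr_iff_pt.1 hy'
  refine (hX.same_iff hsd hty).2 ?_
  by_contra hst
  obtain ⟨r, hr1, hr2⟩ := exists_sep hst
  obtain ⟨w, hw⟩ := hX.exists_mem r.iso
  have hwd := (hX.comm_pt hw hsd).2 hr1
  have hwy : Commute w y := by
    by_cases k : w = d
    · rw [k]; exact hy.2.2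
    · exact (hiff w ⟨e ▸ hw.1.1, k, hwd.symm⟩).1 hw.1.2.1
  rw [hX.comm_pt hw hty, hr2] at hwy
  exact Bool.noConfusion hwy

end Hyp

end CfsgLib.ThreeTrans.UCent
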