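import Mathlib
import Cfsg.Agent.Lib.ThreeTrans.UCent.Fibres

/-! The `693` conjugates within distance two of the involution: a closed set of 3-transpositions whose
stabiliser contains their centralisers and no further conjugate. -/

set_option autoImplicit false
set_option linter.unusedSectionVars false

namespace CfsgLib.ThreeTrans.UCent

open CfsgLib.ThreeTrans.LocalSymThree (nbr)

universe u

variable {G : Type u} [Group G] [Finite G] {d : G}

/-- At distance two. -/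
def far2 (d : G) : Set G := {y | y ∈ Dc d ∧ ¬ Commute d y ∧ (nbr (Dc d) d ∩ nbr (Dc d) y).Nonempty}

/-- The component. -/
def Om (d : G) : Set G := insert d (nbr (Dc d) d ∪ far2 d)

theorem nbr_swap {D : Set G} {x y : G} (hx : x ∈ D) (h : y ∈ nbr D x) : x ∈ nbr D y :=
  ⟨hx, h.2.1.symm, h.2.2.symm⟩

theorem cj_nbr {g x a : G} (hx : x ∈ nbr (Dc d) a) : cj g x ∈ nbr (Dc d) (cj g a) :=
  ⟨isConj_cj g hx.1, fun e => hx.2.1 (cj_inj e), commute_cj hx.2.2⟩

namespace Hyp

variable (h : Hyp d)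
include h

theorem d_mem : d ∈ Dc d := mem_conjugatesOf_self

/-- The common members of a pair at distance two. -/
theorem card_mid {r a : G} (hr : r ∈ Dc d) (hrd : ¬ Commute d r) (ha : a ∈ nbr (Dc d) d ∩ nbr (Dc d) r) :
    (nbr (Dc d) d ∩ nbr (Dc d) r ∩ nbr (Dc d) a).ncard = 12 := by
  obtain ⟨hA⟩ := h.exists_at ha.1.1
  have e : Dc a = Dc d := Dc_eq ha.1.1
  have hd' : d ∈ nbr (Dc a) a := by rw [e]; exact nbr_swap h.d_mem ha.1
  have hr' : r ∈ nbr (Dc a) a := by rw [e]; exact nbr_swap hr ha.2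
  rw [← hA.card_both hd' hr' hrd]
  congr 1
  ext w
  rw [e]
  constructor
  · rintro ⟨⟨h1, h2⟩, h3⟩
    exact ⟨h3, h1.2.2.symm, h2.2.2.symm⟩
  · rintro ⟨h3, h1, h2⟩
    refine ⟨⟨⟨h3.1, ?_, h1.symm⟩, ⟨h3.1, ?_, h2.symm⟩⟩, h3⟩
    · rintro rfl; exact hrd h2
    · rintro rfl; exact hrd h1.symm

/-- No two common members of a pair at distance two have the same centre. -/
theorem common_inj {r x y : G} (hrd : ¬ Commute d r) (hx : x ∈ nbr (Dc d) d ∩ nbr (Dc d) r)
    (hy : y ∈ nbr (Dc d) d ∩ nbr (Dc d) r) (hs : Same d x y) (hr : r ∈ Dc d) : x = y := by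
  by_contra hne
  obtain ⟨-, -, k⟩ := h.same_swap hs hne
  have e : Dc x = Dc d := Dc_eq hx.1.1
  have := (k r (by rw [e]; exact nbr_swap hr hx.2)).2 hy.2.2.2
  exact hrd this.symm

/-- The common members of a pair at distance two meet every centre once. -/
theorem common_pts {r : G} (hr : r ∈ far2 d) :
    (nbr (Dc d) d ∩ nbr (Dc d) r).ncard = 45 ∧
      ∀ s : Pt, ∃ a ∈ nbr (Dc d) d ∩ nbr (Dc d) r, h.MemN s.1 a := by
  classical
  obtain ⟨hrD, hrd, hne⟩ := hr
  set S := nbr (Dc d) d ∩ nbr (Dc d) r with hS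
  have hpt : ∀ a : S, ∃ s : Pt, h.MemN s.1 a.1 := fun a => h.nbr_iff_pt.1 a.2.1
  choose f hf using hpt
  have finj : Function.Injective f := fun a b e => Subtype.ext
    (h.common_inj hrd a.2 b.2 ((h.same_iff (hf a) (hf b)).2 e) hrD)
  let P : Set Pt := Set.range f
  have hclosed : ∀ s ∈ P, ∀ t : Pt, perp t.1 s.1 = true → t ∈ P := by
    rintro _ ⟨⟨a, ha⟩, rfl⟩ t ht
    set s := f ⟨a, ha⟩
    by_cases hts : t = s
    · exact ⟨⟨a, ha⟩, hts.symm⟩
    let T : Finset Pt := (Finset.univ.filter fun u : Pt => perp u.1 s.1 = true).erase s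
    have hT : T.card = 12 := by
      have hmem : s ∈ Finset.univ.filter fun u : Pt => perp u.1 s.1 = true :=
        Finset.mem_filter.2 ⟨Finset.mem_univ _, perp_self s.iso⟩
      rw [Finset.card_erase_of_mem hmem, card_perp]
    let M : Set S := {b | b.1 ∈ nbr (Dc d) a}
    have hM : M.ncard = 12 := by
      rw [← h.card_mid hrD hrd ha, ← Set.ncard_image_of_injective M Subtype.val_injective]
      congr 1
      ext w
      simp only [M, hS, Set.mem_image, Set.mem_setOf_eq, Set.mem_inter_iff]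
      exact ⟨fun ⟨⟨b, hb⟩, hbM, e⟩ => e ▸ ⟨hb, hbM⟩, fun ⟨k1, k2⟩ => ⟨⟨w, k1⟩, k2, rfl⟩⟩
    have hsub : f '' M ⊆ ↑T := by
      rintro _ ⟨b, hb, rfl⟩
      refine Finset.mem_coe.2 (Finset.mem_erase.2 ⟨fun e => hb.2.1 (congrArg Subtype.val (finj e)), ?_⟩)
      exact Finset.mem_filter.2 ⟨Finset.mem_univ _, (h.comm_pt (hf b) (hf ⟨a, ha⟩)).1 hb.2.2.symm⟩
    have heq := Set.eq_of_subset_of_ncard_le hsub
      (by rw [Set.ncard_coe_finset, hT, Set.ncard_image_of_injective _ finj, hM]) (Set.toFinite _)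
    have : t ∈ f '' M := by
      rw [heq]
      exact Finset.mem_coe.2 (Finset.mem_erase.2 ⟨hts, Finset.mem_filter.2 ⟨Finset.mem_univ _, ht⟩⟩)
    obtain ⟨b, -, e⟩ := this
    exact ⟨b, e⟩
  obtain ⟨a₀, ha₀⟩ := hne
  have hall : ∀ t : Pt, t ∈ P := fun t => by
    by_cases hp : perp t.1 (f ⟨a₀, ha₀⟩).1 = true
    · exact hclosed _ ⟨_, rfl⟩ t hp
    · obtain ⟨m, h1, h2⟩ := exists_common (Bool.eq_false_iff.2 hp)
      exact hclosed m (hclosed _ ⟨_, rfl⟩ m h2) t (perp_symm h1)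
  refine ⟨?_, fun s => ?_⟩
  · rw [← Nat.card_coe_set_eq, ← card_pt]
    exact Nat.card_congr (Equiv.ofBijective f ⟨finj, hall⟩)
  · obtain ⟨a, e⟩ := hall s
    exact ⟨a.1, a.2, e ▸ hf a⟩

theorem card_far2 : (far2 d).ncard = 512 := by
  classical
  let _ : Fintype G := Fintype.ofFinite G
  set N := (nbr (Dc d) d).toFinset with hN
  set F := (far2 d).toFinset with hF
  have hcount := Finset.sum_card_bipartiteAbove_eq_sum_card_bipartiteBelow (fun a r => r ∈ nbr (Dc d) a)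
    (s := N) (t := F)
  have hA : ∀ a ∈ N, (F.bipartiteAbove (fun a r => r ∈ nbr (Dc d) a) a).card = 128 := by
    intro a ha
    rw [hN, Set.mem_toFinset] at ha
    obtain ⟨hA⟩ := h.exists_at ha.1
    have e : Dc a = Dc d := Dc_eq ha.1
    have hd' : d ∈ nbr (Dc a) a := by rw [e]; exact nbr_swap h.d_mem ha
    have h1 := hA.card_nbr
    have h2 := hA.card_two hd'
    rw [e] at h1 h2
    have hset : (↑(F.bipartiteAbove (fun a r => r ∈ nbr (Dc d) a) a) : Set G) =
        nbr (Dc d) a \ (insert d (nbr (Dc d) a ∩ {w | w ≠ d ∧ Commute w d})) := by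
      ext w
      simp only [Finset.mem_coe, Finset.mem_bipartiteAbove, hF, Set.mem_toFinset]
      constructor
      · rintro ⟨⟨-, h2', -⟩, h1'⟩
        refine ⟨h1', ?_⟩
        rintro (rfl | ⟨-, -, k⟩)
        · exact h2' (Commute.refl _)
        · exact h2' k.symm
      · rintro ⟨h1', h2'⟩
        refine ⟨⟨h1'.1, fun k => h2' ?_, a, ha, nbr_swap ha.1 h1'⟩, h1'⟩
        by_cases q : w = d
        · exact Or.inl q
        · exact Or.inr ⟨h1', q, k.symm⟩
    rw [← Set.ncard_coe_finset, hset, Set.ncard_sdiff (Set.insert_subset (nbr_swap h.d_mem ha)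
      Set.inter_subset_left) (Set.toFinite _), Set.ncard_insert_of_notMem (fun k => k.2.1 rfl) (Set.toFinite _),
      h1, h2]
  have hB : ∀ r ∈ F, (N.bipartiteBelow (fun a r => r ∈ nbr (Dc d) a) r).card = 45 := by
    intro r hr
    rw [hF, Set.mem_toFinset] at hr
    rw [← (h.common_pts hr).1, ← Set.ncard_coe_finset]
    congr 1
    ext w
    simp only [Finset.mem_coe, Finset.mem_bipartiteBelow, hN, Set.mem_toFinset]
    exact ⟨fun ⟨k1, k2⟩ => ⟨k1, nbr_swap k1.1 k2⟩, fun ⟨k1, k2⟩ => ⟨k1, nbr_swap hr.1 k2⟩⟩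
  rw [Finset.sum_const_nat hA, Finset.sum_const_nat hB, hN, hF, ← Set.ncard_eq_toFinset_card',
    ← Set.ncard_eq_toFinset_card', h.card_nbr] at hcount
  omega

theorem card_om : (Om d).ncard = 693 := by
  rw [Om, Set.ncard_insert_of_notMem ?_ (Set.toFinite _),
    Set.ncard_union_eq ?_ (Set.toFinite _) (Set.toFinite _), h.card_nbr, h.card_far2]
  · exact Set.disjoint_left.2 fun y hy hy' => hy'.2.1 hy.2.2
  · rintro (k | k)
    · exact k.2.1 rfl
    · exact k.2.1 (Commute.refl _)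

theorem om_sub {x : G} (hx : x ∈ Om d) : x ∈ Dc d := by
  rcases hx with rfl | hx | hx
  exacts [h.d_mem, hx.1, hx.1]

theorem om_closed {x y : G} (hx : x ∈ Om d) (hy : y ∈ nbr (Dc d) x) : y ∈ Om d := by
  rcases hx with rfl | hx | hx
  · exact Or.inr (Or.inl hy)
  · by_cases e : y = d
    · exact Or.inl e
    by_cases hc : Commute d y
    · exact Or.inr (Or.inl ⟨hy.1, e, hc⟩)
    · exact Or.inr (Or.inr ⟨hy.1, hc, x, hx, nbr_swap hx.1 hy⟩)
  · by_cases e : y = d
    · exact Or.inl e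
    by_cases hc : Commute d y
    · exact Or.inr (Or.inl ⟨hy.1, e, hc⟩)
    obtain ⟨hX⟩ := h.exists_at hx.1
    have eD : Dc x = Dc d := Dc_eq hx.1
    obtain ⟨hxD, hxd, b, hb⟩ := hx
    have hfar : d ∈ far2 x := by
      refine ⟨by rw [eD]; exact h.d_mem, fun k => hxd k.symm, b, ?_⟩
      rw [eD]; exact ⟨hb.2, hb.1⟩
    obtain ⟨s, hs⟩ := hX.nbr_iff_pt.1 (show y ∈ nbr (Dc x) x by rw [eD]; exact hy)
    obtain ⟨a, ha, hs'⟩ := (hX.common_pts hfar).2 s
    rw [eD] at ha
    refine Or.inr (Or.inr ⟨hy.1, hc, a, ha.2, ha.2.1, ?_, (hX.comm_pt hs hs').2 (perp_self s.iso)⟩)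
    rintro rfl
    exact hc ha.2.2.2

theorem om_comm {x y : G} (hx : x ∈ Om d) (hy : y ∈ Dc d) (hc : Commute x y) : y ∈ Om d := by
  by_cases e : y = x
  · exact e ▸ hx
  · exact h.om_closed hx ⟨hy, e, hc⟩

/-- The component of a member is the component. -/
theorem om_eq {a : G} (ha : a ∈ Om d) : Om a = Om d := by
  obtain ⟨hA⟩ := h.exists_at (h.om_sub ha)
  have e : Dc a = Dc d := Dc_eq (h.om_sub ha)
  refine Set.eq_of_subset_of_ncard_le ?_ (by rw [h.card_om, hA.card_om]) (Set.toFinite _)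
  have step : ∀ {u}, u ∈ nbr (Dc d) a → u ∈ Om d := fun hu => h.om_closed ha hu
  rintro w (rfl | hw | ⟨hw, -, b, hb, hb'⟩)
  · exact ha
  · exact step (by rwa [e] at hw)
  · rw [e] at hb hb' hw
    exact h.om_closed (step hb) (nbr_swap hw hb')

theorem image_eq {g : G} (hg : cj g d ∈ Om d) : cj g '' Om d = Om d := by
  refine Set.eq_of_subset_of_ncard_le ?_
    (by rw [Set.ncard_image_of_injective _ fun _ _ => cj_inj]) (Set.toFinite _)
  rintro _ ⟨u, hu, rfl⟩
  rcases hu with rfl | hu | ⟨hu, -, a, ha, ha'⟩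
  · exact hg
  · exact h.om_closed hg (cj_nbr hu)
  · exact h.om_closed (h.om_closed hg (cj_nbr ha)) (cj_nbr (nbr_swap hu ha'))

theorem braid_om {x y : G} (hx : x ∈ Om d) (hy : y ∈ Om d) (hxy : ¬ Commute x y) :
    x * y * x = y * x * y := by
  have hy' : y ∈ Om x := by rw [h.om_eq hx]; exact hy
  rcases hy' with rfl | k | ⟨hyD, -, a, ha, ha'⟩
  · exact absurd (Commute.refl _) hxy
  · exact absurd k.2.2 hxy
  · have eX : Dc x = Dc d := Dc_eq (h.om_sub hx)
    rw [eX] at ha ha' hyD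
    obtain ⟨hA⟩ := h.exists_at ha.1
    have eA : Dc a = Dc d := Dc_eq ha.1
    exact hA.braid_nbr (by rw [eA]; exact nbr_swap (h.om_sub hx) ha) (by rw [eA]; exact nbr_swap hyD ha') hxy

theorem three_om {x y : G} (hx : x ∈ Om d) (hy : y ∈ Om d) (hxy : ¬ Commute x y) : (x * y) ^ 3 = 1 := by
  have e : (x * y) ^ 3 = (x * y * x) * (y * x * y) := by simp [pow_succ, mul_assoc]
  rw [e, ← h.braid_om hx hy hxy]
  have : x * y * x * (x * y * x) = x * (y * ((x * x) * y)) * x := by simp [mul_assoc]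
  rw [this, h.sq_one (h.om_sub hx), one_mul, h.sq_one (h.om_sub hy), mul_one, h.sq_one (h.om_sub hx)]

end Hyp

/-- The stabiliser of the component. -/
def St (d : G) : Subgroup G where
  carrier := {g | cj g '' Om d = Om d}
  one_mem' := by
    show cj 1 '' Om d = Om d
    ext y; simp [cj]
  mul_mem' {a b} (ha : cj a '' Om d = Om d) (hb : cj b '' Om d = Om d) := by
    show cj (a * b) '' Om d = Om d
    rw [show cj (a * b) = cj a ∘ cj b from funext fun x => (cj_cj a b x).symm, Set.image_comp, hb, ha]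
  inv_mem' {a} (ha : cj a '' Om d = Om d) := by
    show cj a⁻¹ '' Om d = Om d
    conv_lhs => rw [← ha, ← Set.image_comp]
    ext y; simp [cj, mul_assoc]

theorem St_maps {g x : G} (hg : g ∈ St d) (hx : x ∈ Om d) : cj g x ∈ Om d :=
  (show cj g '' Om d = Om d from hg) ▸ Set.mem_image_of_mem _ hx

namespace Hyp

variable (h : Hyp d)
include h

theorem mem_St {g : G} : g ∈ St d ↔ cj g d ∈ Om d :=
  ⟨fun k => St_maps k (Or.inl rfl), fun k => h.image_eq k⟩

theorem exists_to {x : G} (hx : x ∈ Om d) : ∃ g ∈ St d, cj g d = x := by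
  obtain ⟨g, hg⟩ := isConj_iff.1 (h.om_sub hx)
  exact ⟨g, h.mem_St.2 (show g * d * g⁻¹ ∈ Om d by rw [hg]; exact hx), hg⟩

/-- Whatever carries one point of the component into it preserves it. -/
theorem mem_St_of {g x : G} (hx : x ∈ Om d) (hgx : cj g x ∈ Om d) : g ∈ St d := by
  obtain ⟨g₀, hg₀, rfl⟩ := h.exists_to hx
  have := h.mem_St.2 (show cj (g * g₀) d ∈ Om d by rwa [← cj_cj])
  simpa using mul_mem this (inv_mem hg₀)

theorem cent_le {g x : G} (hx : x ∈ Om d) (hg : Commute g x) : g ∈ St d :=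
  h.mem_St_of hx (by rwa [cj_eq_self.2 hg])

theorem self_mem {x : G} (hx : x ∈ Om d) : x ∈ St d := h.cent_le hx (Commute.refl x)

/-- An element of square one in the stabiliser fixes a point. -/
theorem exists_fixed {t : G} (ht : t ∈ St d) (htt : t * t = 1) : ∃ x ∈ Om d, Commute t x := by
  classical
  let σ : Equiv.Perm (Om d) :=
    { toFun := fun x => ⟨cj t x, St_maps ht x.2⟩
      invFun := fun x => ⟨cj t x, St_maps ht x.2⟩
      left_inv := fun x => Subtype.ext (by show cj t (cj t x) = x; rw [cj_cj, htt, cj_one])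
      right_inv := fun x => Subtype.ext (by show cj t (cj t x) = x; rw [cj_cj, htt, cj_one]) }
  have : Fintype (Om d) := Fintype.ofFinite _
  have hσ : σ ^ 2 ^ 1 = 1 := Equiv.ext fun x => Subtype.ext (by
    show cj t (cj t x) = x
    rw [cj_cj, htt, cj_one])
  have : Fact (Nat.Prime 2) := ⟨Nat.prime_two⟩
  have hodd : ¬ 2 ∣ Fintype.card (Om d) := by
    rw [← Nat.card_eq_fintype_card, Nat.card_coe_set_eq, h.card_om]; norm_num
  obtain ⟨⟨x, hx⟩, hfix⟩ := Equiv.Perm.exists_fixed_point_of_prime hodd hσ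
  exact ⟨x, hx, cj_eq_self.1 (congrArg Subtype.val hfix)⟩

/-- The stabiliser contains no other conjugate. -/
theorem mem_om_of_St {y : G} (hy : y ∈ Dc d) (hyS : y ∈ St d) : y ∈ Om d := by
  obtain ⟨x, hx, hc⟩ := h.exists_fixed hyS (h.sq_one hy)
  exact h.om_comm hx hy hc.symm

end Hyp

end CfsgLib.ThreeTrans.UCent
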