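import Mathlib
import Cfsg.Prelude.Def_CaseTheorems
import Cfsg.Agent.Lib.Involutions.BrauerSuzuki
import Cfsg.Agent.Lib.PCore.Basic
import Cfsg.Agent.Lib.ThreeTrans.UCent.Component

/-! The centraliser of the product of two commuting members of the component lies in its stabiliser: the
members are isolated in the quotient, and a group of odd order inverted by three involutions with product
equal to the central one is trivial. -/

set_option autoImplicit false
set_option linter.unusedSectionVars false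

namespace CfsgLib.ThreeTrans.UCent

open CfsgLib.ThreeTrans.LocalSymThree (nbr)

universe u

/-- A list of elements each inverting an element acts by the sign of its length. -/
theorem list_inv {Q : Type*} [Group Q] {x : Q} :
    ∀ l : List Q, (∀ w ∈ l, w * x * w⁻¹ = x⁻¹) → l.prod * x * l.prod⁻¹ = if Even l.length then x else x⁻¹
  | [], _ => by simp
  | w :: l, hl => by
    have ih := list_inv l fun z hz => hl z (List.mem_cons_of_mem w hz)
    rw [List.prod_cons, show w * l.prod * x * (w * l.prod)⁻¹ = w * (l.prod * x * l.prod⁻¹) * w⁻¹ by group, ih,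
      List.length_cons]
    have hw := hl w List.mem_cons_self
    by_cases he : Even l.length
    · rw [if_pos he, if_neg (by rw [Nat.even_add_one, not_not]; exact he), hw]
    · rw [if_neg he, if_pos (by rw [Nat.even_add_one]; exact he)]
      have := congrArg (fun t => t⁻¹) hw
      simpa [mul_assoc] using this

variable {G : Type u} [Group G] [Finite G] {d : G}

namespace Hyp

variable (h : Hyp d)
include h

theorem st_eq {a : G} (ha : a ∈ Om d) : St a = St d := by
  ext g
  show cj g '' Om a = Om a ↔ cj g '' Om d = Om d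
  rw [h.om_eq ha]

/-- A member commuting with the product of a commuting pair commutes with both. -/
theorem commute_of_prod {a b w : G} (ha : a ∈ Om d) (hb : b ∈ Om d) (hne : a ≠ b) (hw : w ∈ Om d)
    (hc : Commute w (a * b)) : Commute w a ∧ Commute w b := by
  have aa := h.sq_one (h.om_sub ha)
  have bb := h.sq_one (h.om_sub hb)
  have hb' : Commute w a → Commute w b := fun k => by
    have := k.inv_right.mul_right hc
    rwa [inv_mul_cancel_left] at this
  have ha' : Commute w b → Commute w a := fun k => by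
    have := hc.mul_right k.inv_right
    rwa [mul_inv_cancel_right] at this
  by_cases k : Commute w a
  · exact ⟨k, hb' k⟩
  exfalso
  have k' : ¬ Commute w b := fun q => k (ha' q)
  have e1 := h.braid_om hw ha k
  have e2 := h.braid_om hw hb k'
  have e3 : a * w * a = b * w * b := by
    calc a * w * a = a * (w * (a * b)) * b := by simp only [mul_assoc, bb, mul_one]
      _ = a * (a * b * w) * b := by rw [hc.eq]
      _ = b * w * b := by simp only [← mul_assoc, aa, one_mul]
  rw [← e1, ← e2] at e3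
  exact hne (mul_left_cancel (mul_right_cancel e3))

/-- A commuting pair with the product of the involution and a member contains the involution. -/
theorem pair_unique {b e f : G} (hb : b ∈ nbr (Dc d) d) (he : e ∈ Dc d) (hf : f ∈ Dc d)
    (hed : Commute e d) (hfd : Commute f d) (hef : Commute e f) (hprod : ∀ u, h.act (e * f) u = h.act b u) : e = d ∨ f = d := by
  by_contra hn
  simp only [not_or] at hn
  obtain ⟨p, hp, hP⟩ := (h.cases_cd he hed).resolve_left hn.1
  obtain ⟨r, hr, hR⟩ := (h.cases_cd hf hfd).resolve_left hn.2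
  obtain ⟨s, hs, hS⟩ := h.mem_nbr_iff.1 hb
  have hall : ∀ u, tv p (tv r u) = tv s u := fun u => by
    rw [← hR.1.2.2, ← hP.1.2.2, ← h.act_mul hed hfd, hprod, hS.1.2.2]
  have hperp := (MemN.commute_iff h hp hr hP hR).1 hef
  by_cases hl : onLine p r = true
  · refine MemN.not_Q h hs hS (h.mem_Q_of_act hS.1.2.1 fun u => ?_)
    rw [hS.1.2.2, ← hall, ← tv_same hp (iso_iff.1 hr).2 hl, tv_invol hp]
  · exact tv_prod_ne hp hr hperp (Bool.eq_false_iff.2 hl) hall

theorem act_d_mul {b : G} (hb : b ∈ nbr (Dc d) d) (u : W) : h.act (d * b) u = h.act b u := by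
  rw [h.act_mul (Commute.refl d) hb.2.2.symm, h.act_Q h.dQ]

/-- An element preserving the component and the product preserves the pair. -/
theorem conj_pair {b k : G} (hb : b ∈ nbr (Dc d) d) (hk : k ∈ St d) (hc : Commute k (d * b)) :
    cj k d = d ∨ cj k d = b := by
  have hbO : b ∈ Om d := Or.inr (Or.inl hb)
  have hdO : d ∈ Om d := Or.inl rfl
  have e : cj k d * cj k b = d * b := by rw [← cj_mul, cj_eq_self.2 hc]
  have s1 : Commute d (d * b) := (Commute.refl d).mul_right hb.2.2
  have s2 : Commute b (d * b) := hb.2.2.symm.mul_right (Commute.refl b)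
  have q1 : Commute (cj k d) (d * b) := by rw [← cj_eq_self.2 hc]; exact commute_cj s1
  have q2 : Commute (cj k b) (d * b) := by rw [← cj_eq_self.2 hc]; exact commute_cj s2
  have c1 := (h.commute_of_prod hdO hbO hb.2.1.symm (St_maps hk hdO) q1).1
  have c2 := (h.commute_of_prod hdO hbO hb.2.1.symm (St_maps hk hbO) q2).1
  rcases h.pair_unique hb (isConj_cj k h.d_mem) (isConj_cj k hb.1) c1 c2 (commute_cj hb.2.2)
      (fun u => by rw [e, h.act_d_mul hb]) with q | q
  · exact Or.inl q
  · right
    have : cj k d * d = d * b := by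
      have := e
      rwa [q] at this
    calc cj k d = cj k d * d * d := by rw [mul_assoc, h.dd, mul_one]
      _ = b := by rw [this, hb.2.2.eq, mul_assoc, h.dd, mul_one]

/-- Four members with one centre multiply into the involution or one. -/
theorem fibre_prod {s : Pt} {a b c e : G} (ha : h.MemN s.1 a) (hb : h.MemN s.1 b) (hc : h.MemN s.1 c)
    (he : h.MemN s.1 e) (hnd : a ≠ b ∧ a ≠ c ∧ a ≠ e ∧ b ≠ c ∧ b ≠ e ∧ c ≠ e) :
    a * b * c * e = 1 ∨ a * b * c * e = d := by
  classical
  obtain ⟨n1, n2, n3, n4, n5, n6⟩ := hnd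
  have hbc : Commute b a := (h.comm_pt hb ha).2 (perp_self s.iso)
  set p := s.1
  set c1 := h.co (a * b)
  set c2 := h.co (a * c)
  set c3 := h.co (a * e)
  have d1 := MemN.diff h s.iso ha hb
  have d2 := MemN.diff h s.iso ha hc
  have d3 := MemN.diff h s.iso ha he
  have key : ∀ {x y : G}, h.MemN p x → h.MemN p y → x ≠ y → h.co (a * x) ≠ h.co (a * y) := by
    intro x y hx hy hxy k
    rcases h.co_eq (MemN.diff h s.iso ha hx).1 (MemN.diff h s.iso ha hy).1 k with q | q
    · exact hxy (mul_left_cancel q).symm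
    · rw [mul_assoc] at q
      exact hx.2 (mul_left_cancel q ▸ hy.1.1)
  have zero : h.co (a * a) = 0 := by rw [h.sq_one ha.1.1, h.co_one]
  have k1 : c1 ≠ 0 := zero ▸ key hb ha n1.symm
  have k2 : c2 ≠ 0 := zero ▸ key hc ha n2.symm
  have k3 : c3 ≠ 0 := zero ▸ key he ha n3.symm
  have k12 : c1 ≠ c2 := key hb hc n4
  have k13 : c1 ≠ c3 := key hb he n5
  have k23 : c2 ≠ c3 := key hc he n6
  have hsum : c1 + c2 + c3 = 0 := by
    have hset : ({0, c1, c2, c3} : Finset W) = Finset.univ.filter fun w => onLine p w = true := by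
      refine Finset.eq_of_subset_of_card_le ?_ ?_
      · intro w hw
        simp only [Finset.mem_insert, Finset.mem_singleton] at hw
        refine Finset.mem_filter.2 ⟨Finset.mem_univ _, ?_⟩
        rcases hw with rfl | rfl | rfl | rfl
        exacts [onLine_zero p, d1.2, d2.2, d3.2]
      · have e4 : (Finset.univ.filter fun w => onLine p w = true).card = 4 := by
          rw [← card_line s.ne_zero, ← Set.ncard_coe_finset]
          congr 1
          ext w; simp [p]
        rw [e4]
        simp [Finset.card_insert_of_notMem, k1.symm, k2.symm, k3.symm, k12, k13, k23]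
    have hm : c1 + c2 ∈ ({0, c1, c2, c3} : Finset W) := by
      rw [hset]; exact Finset.mem_filter.2 ⟨Finset.mem_univ _, onLine_add d1.2 d2.2⟩
    simp only [Finset.mem_insert, Finset.mem_singleton] at hm
    rcases hm with q | q | q | q
    · exact absurd (W.add_eq_zero'.1 q) k12
    · exact absurd (add_eq_left.1 q) k2
    · exact absurd (add_eq_right.1 q) k1
    · rw [q, W.add_self]
  have e' : a * b * c * e = (a * b) * ((a * c) * (a * e)) := by
    have hca : Commute c a := (h.comm_pt hc ha).2 (perp_self s.iso)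
    calc a * b * c * e = a * b * (c * (a * a) * e) := by rw [h.sq_one ha.1.1, mul_one, mul_assoc (a * b)]
      _ = a * b * ((c * a) * (a * e)) := by simp only [mul_assoc]
      _ = _ := by rw [hca.eq]
  rw [e']
  refine (h.co_ker _ (mul_mem d1.1 (mul_mem d2.1 d3.1))).1 ?_
  rw [h.co_mul _ d1.1 _ (mul_mem d2.1 d3.1), h.co_mul _ d2.1 _ d3.1, ← add_assoc]
  exact hsum

/-- The product of a pair is a product of three members commuting with it. -/
theorem three_prod {b : G} (hb : b ∈ nbr (Dc d) d) : ∃ l : List G, l.length = 3 ∧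
    (∀ y ∈ l, y ∈ Om d ∧ Commute y (d * b)) ∧ l.prod = d * b := by
  classical
  obtain ⟨s, hs⟩ := h.nbr_iff_pt.1 hb
  set F := {x | h.MemN s.1 x}
  have hF : F.ncard = 4 := h.card_fibre s
  have hb' : (F \ {b}).ncard = 3 := by
    rw [Set.ncard_sdiff_singleton_of_mem (show b ∈ F from hs), hF]
  obtain ⟨x, y, z, nxy, nxz, nyz, he⟩ := Set.ncard_eq_three.1 hb'
  have hx : x ∈ F \ {b} := by rw [he]; simp
  have hy : y ∈ F \ {b} := by rw [he]; simp
  have hz : z ∈ F \ {b} := by rw [he]; simp
  have nd : b ≠ x ∧ b ≠ y ∧ b ≠ z ∧ x ≠ y ∧ x ≠ z ∧ y ≠ z :=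
    ⟨fun q => hx.2 q.symm, fun q => hy.2 q.symm, fun q => hz.2 q.symm, nxy, nxz, nyz⟩
  have hbb := h.sq_one hb.1
  have key : b * x * y * z = d := by
    refine (h.fibre_prod hs hx.1 hy.1 hz.1 nd).resolve_left fun k => ?_
    obtain ⟨hB⟩ := h.exists_at hb.1
    have eB : Dc b = Dc d := Dc_eq hb.1
    have hd' : d ∈ nbr (Dc b) b := by rw [eB]; exact nbr_swap h.d_mem hb
    obtain ⟨t, ht⟩ := hB.nbr_iff_pt.1 hd'
    have hsame : ∀ {w}, w ∈ F \ {b} → hB.MemN t.1 w := fun {w} hw => by
      have hS := h.same_swap ((h.same_iff hs hw.1).2 rfl) (fun q => hw.2 q.symm)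
      obtain ⟨t', ht'⟩ := hB.nbr_iff_pt.1 hS.2.1
      rwa [(hB.same_iff ht ht').1 hS]
    have k' := hB.fibre_prod ht (hsame hx) (hsame hy) (hsame hz)
      ⟨(MemN.mem_nbr h s.iso hx.1).2.1.symm, (MemN.mem_nbr h s.iso hy.1).2.1.symm,
        (MemN.mem_nbr h s.iso hz.1).2.1.symm, nxy, nxz, nyz⟩
    have e1 : x * y * z = b := by
      rw [mul_assoc b, mul_assoc b] at k
      exact (eq_inv_of_mul_eq_one_right k).trans (h.inv_self hb.1)
    rw [mul_assoc d, mul_assoc d, e1] at k'
    rcases k' with q | q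
    · exact hb.2.1 ((eq_inv_of_mul_eq_one_left q).trans (h.inv_self hb.1)).symm
    · exact h.d_ne_one (mul_eq_right.1 q)
  refine ⟨[x, y, z], rfl, ?_, ?_⟩
  · intro w hw
    simp only [List.mem_cons, List.not_mem_nil, or_false] at hw
    have hwF : w ∈ F := by
      rcases hw with rfl | rfl | rfl
      exacts [hx.1, hy.1, hz.1]
    exact ⟨Or.inr (Or.inl (MemN.mem_nbr h s.iso hwF)),
      hwF.1.2.1.mul_right ((h.comm_pt hwF hs).2 (perp_self s.iso))⟩
  · rw [List.prod_cons, List.prod_cons, List.prod_cons, List.prod_nil, mul_one, ← key]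
    have : ∀ {w}, w ∈ F → Commute b w := fun hw => (h.comm_pt hs hw).2 (perp_self s.iso)
    have hc : Commute b (x * y * z) := ((this hx.1).mul_right (this hy.1)).mul_right (this hz.1)
    calc x * (y * z) = b * (b * (x * y * z)) := by rw [← mul_assoc b b, hbb, one_mul, mul_assoc]
      _ = b * (x * y * z) * b := by rw [mul_assoc b, hc.eq]
      _ = _ := by simp only [mul_assoc]

/-- A subgroup of odd order modulo the product centralising the pair and normalised by its centraliser. -/
theorem small {b : G} (hb : b ∈ nbr (Dc d) d) (L : Subgroup G)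
    (hc : ∀ k ∈ L, Commute k d ∧ Commute k b)
    (hn : ∀ g k, Commute g d → Commute g b → k ∈ L → g * k * g⁻¹ ∈ L)
    (ho : ∀ k ∈ L, ∃ m, Odd m ∧ (k ^ m = 1 ∨ k ^ m = d * b)) : ∀ k ∈ L, k = 1 ∨ k = d * b := by
  obtain ⟨p, hp, hM⟩ := h.mem_nbr_iff.1 hb
  have hbQ := MemN.not_Q h hp hM
  intro k hk
  have hkd := (hc k hk).1
  -- odd order in the normal 2-subgroup
  have odd_one : ∀ y ∈ h.Q, ∀ m, Odd m → y ^ m = 1 → y = 1 := by
    rintro y hy m ⟨j, rfl⟩ e
    have h4 : y ^ 4 = 1 := by
      rw [show 4 = 2 * 2 from rfl, pow_mul, pow_two, pow_two]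
      rcases (h.co_ker _ (mul_mem hy hy)).1 (by rw [h.co_mul _ hy _ hy, W.add_self]) with q | q <;> rw [q]
      · rw [one_mul]
      · rw [h.dd]
    have : orderOf y ∣ Nat.gcd 4 (2 * j + 1) :=
      Nat.dvd_gcd (orderOf_dvd_of_pow_eq_one h4) (orderOf_dvd_of_pow_eq_one e)
    have hg : Nat.gcd 4 (2 * j + 1) = 1 := by
      rw [show (4 : ℕ) = 2 ^ 2 from rfl]
      exact Nat.Coprime.pow_left 2 (Nat.coprime_two_left.2 ⟨j, rfl⟩)
    rw [hg, Nat.dvd_one] at this
    exact orderOf_eq_one_iff.1 this
  have hfix : ∀ u, perp u p = true → h.act k u = u := by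
    intro u hu
    obtain ⟨q, hq, rfl⟩ := h.co_surj u
    have hqb := MemN.comm_Q h (iso_iff.1 hp).2 hM hq hu
    set y := q * k * q⁻¹ * k⁻¹ with hy
    have hyQ : y ∈ h.Q := by
      rw [show y = q * cj k q⁻¹ by rw [hy, cj]; group]
      exact mul_mem hq (h.Q_norm k hkd _ (inv_mem hq))
    have hyL : y ∈ L := mul_mem (hn q k (h.Q_le q hq) hqb hk) (inv_mem hk)
    obtain ⟨m, hm, e⟩ := ho y hyL
    have hy1 : y = 1 := odd_one y hyQ m hm (e.resolve_right fun e' => hbQ (by
      have : d * b ∈ h.Q := e' ▸ pow_mem hyQ m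
      have := mul_mem h.dQ this
      rwa [← mul_assoc, h.dd, one_mul] at this))
    rw [hy, mul_inv_eq_one, mul_inv_eq_iff_eq_mul] at hy1
    rw [← h.act_co hkd hq, cj_eq_self.2 (show Commute k q from hy1.symm)]
  -- an isometry fixing the orthogonal of a point has square one
  have hsq : ∀ u, h.act k (h.act k u) = u := by
    intro u
    have hline : onLine p (h.act k u + u) = true := mem_line_of_bt hp fun v hv => by
      rw [bt_add', bt_comm v, bt_comm v]
      conv_lhs => arg 1; rw [← hfix v hv]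
      rw [h.act_bt hkd, Bool.xor_self]
    have := hfix _ (onLine_perp hp hline)
    rw [h.act_add hkd] at this
    exact add_right_cancel (this.trans (add_comm _ _))
  have hk2 : k * k ∈ h.Q := h.mem_Q_of_act (hkd.mul_left hkd) fun u => by rw [h.act_mul hkd hkd, hsq]
  obtain ⟨m, hm, e⟩ := ho k hk
  have hdbd : (d * b) * (d * b) = 1 := by
    rw [mul_assoc, ← mul_assoc b d b, hb.2.2.symm.eq, mul_assoc d b b, h.sq_one hb.1, mul_one, h.dd]
  have hkk : k * k = 1 := by
    refine odd_one _ hk2 m hm ?_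
    rw [← pow_two, ← pow_mul, mul_comm, pow_mul, pow_two]
    rcases e with e | e <;> rw [e]
    · rw [one_mul]
    · exact hdbd
  obtain ⟨j, rfl⟩ := hm
  rwa [pow_succ, pow_mul, pow_two, hkk, one_pow, one_mul] at e

/-- The centraliser of the product of the involution and a neighbour preserves the component. -/
theorem cent_pair_at {b : G} (hb : b ∈ nbr (Dc d) d) {g : G} (hg : Commute g (d * b)) : g ∈ St d := by
  classical
  have hdd := h.dd
  have hbb := h.sq_one hb.1
  have hdO : d ∈ Om d := Or.inl rfl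
  have hbO : b ∈ Om d := Or.inr (Or.inl hb)
  have hdb : Commute d b := hb.2.2
  have hne : d ≠ b := hb.2.1.symm
  set s := d * b with hs
  have hss : s * s = 1 := by
    rw [hs, mul_assoc, ← mul_assoc b d b, hdb.symm.eq, mul_assoc d b b, hbb, mul_one, hdd]
  have hs1 : s ≠ 1 := fun k => hne ((eq_inv_of_mul_eq_one_left k).trans (h.inv_self hb.1))
  have hds : Commute d s := (Commute.refl d).mul_right hdb
  have hbs : Commute b s := hdb.symm.mul_right (Commute.refl b)
  let C := Subgroup.centralizer ({s} : Set G)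
  have memC : ∀ {x : G}, x ∈ C ↔ Commute x s := fun {x} =>
    ⟨fun k => Subgroup.mem_centralizer_singleton_iff.1 k, fun k => Subgroup.mem_centralizer_singleton_iff.2 k.eq⟩
  let N : Subgroup C := (Subgroup.zpowers s).subgroupOf C
  have hN : ∀ x : C, x ∈ N ↔ (x : G) = 1 ∨ (x : G) = s := by
    intro x
    show (x : G) ∈ Subgroup.zpowers s ↔ _
    constructor
    · intro hx
      obtain ⟨n, hn⟩ := Subgroup.mem_zpowers_iff.1 hx
      rw [← hn]
      rcases Int.even_or_odd' n with ⟨m, rfl | rfl⟩
      · left; rw [zpow_mul, zpow_two, hss, one_zpow]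
      · right; rw [zpow_add, zpow_mul, zpow_two, hss, one_zpow, one_mul, zpow_one]
    · rintro (k | k) <;> rw [k]
      exacts [one_mem _, Subgroup.mem_zpowers s]
  have : N.Normal := ⟨fun n hn x => by
    have hn' := (hN n).1 hn
    refine (hN _).2 (hn'.imp (fun k => ?_) fun k => ?_) <;>
      simp only [Subgroup.coe_mul, Subgroup.coe_inv, k]
    · rw [mul_one, mul_inv_cancel]
    · rw [(memC.1 x.2).eq, mul_inv_cancel_right]⟩
  have : Finite C := inferInstance
  let dC : C := ⟨d, memC.2 hds⟩
  have hiso : Cfsg.IsIsolatedInvolution (dC : C ⧸ N) := by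
    refine ⟨orderOf_eq_prime ?_ ?_, ?_⟩
    · rw [pow_two, ← QuotientGroup.mk_mul, show dC * dC = 1 from Subtype.ext hdd, QuotientGroup.mk_one]
    · intro k
      rcases (hN dC).1 ((QuotientGroup.eq_one_iff _).1 k) with k' | k'
      · exact h.d_ne_one k'
      · exact hb.2.1 (by
          have k'' : d * b = d * 1 := by rw [mul_one]; exact k'.symm
          exfalso
          have hb1 : b = 1 := mul_left_cancel k''
          exact h.d_ne_one (isConj_one_left.1 (hb1 ▸ hb.1)))
    intro x
    induction x using QuotientGroup.induction_on with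
    | _ x =>
      intro hcm
      have hxs : Commute (x : G) s := memC.1 x.2
      set a' := cj (x : G) d with ha'
      have ha'D : a' ∈ Dc d := isConj_cj _ h.d_mem
      have ha's : Commute a' s := by rw [← cj_eq_self.2 hxs, ha']; exact commute_cj hds
      rw [← QuotientGroup.mk_inv, ← QuotientGroup.mk_mul, ← QuotientGroup.mk_mul] at hcm ⊢
      have hcm' := QuotientGroup.eq.1 (hcm.eq : ((dC * (x * dC * x⁻¹) : C) : C ⧸ N) = ((x * dC * x⁻¹ * dC : C) : C ⧸ N))
      rw [hN] at hcm'
      change (d * a')⁻¹ * (a' * d) = 1 ∨ (d * a')⁻¹ * (a' * d) = s at hcm'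
      rw [mul_inv_rev, h.inv_self ha'D, h.d_inv] at hcm'
      suffices a' = d ∨ a' = b by
        symm
        rw [QuotientGroup.eq, hN]
        show d⁻¹ * a' = 1 ∨ d⁻¹ * a' = s
        rcases this with k | k <;> rw [k]
        · exact Or.inl (inv_mul_cancel d)
        · exact Or.inr (by rw [h.d_inv])
      rcases hcm' with k | k
      · have hca : Commute d a' := by
          show d * a' = a' * d
          calc d * a' = d * a' * (a' * d * (a' * d)) := by
                rw [show a' * d * (a' * d) = 1 by simpa [mul_assoc] using k, mul_one]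
            _ = a' * d := by simp [mul_assoc, ← mul_assoc a' a', h.sq_one ha'D, ← mul_assoc d d, hdd]
        have hb' : cj (x : G) b ∈ Dc d := isConj_cj _ hb.1
        have hb'e : a' * cj (x : G) b = s := by rw [ha', ← cj_mul, cj_eq_self.2 hxs]
        have hab' : Commute a' (cj (x : G) b) := commute_cj hdb
        have hb'O : cj (x : G) b ∈ Om d := h.om_comm (h.om_comm hdO ha'D hca) hb' hab'
        have hb's : Commute (cj (x : G) b) s := by rw [← cj_eq_self.2 hxs]; exact commute_cj hbs
        have c2 := (h.commute_of_prod hdO hbO hne hb'O hb's).1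
        rcases h.pair_unique hb ha'D hb' hca.symm c2 hab'
          (fun u => by rw [hb'e, h.act_d_mul hb]) with q | q
        · exact Or.inl q
        · right
          rw [q] at hb'e
          calc a' = a' * d * d := by rw [mul_assoc, hdd, mul_one]
            _ = b := by rw [hb'e, hs, hdb.eq, mul_assoc, hdd, mul_one]
      · exfalso
        have e1 : cj a' d = b := by
          rw [cj, h.inv_self ha'D]
          calc a' * d * a' = a' * d * (a' * d) * d := by simp [mul_assoc, hdd]
            _ = b := by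
              rw [show a' * d * (a' * d) = s by simpa [mul_assoc] using k, hs, hdb.eq, mul_assoc, hdd, mul_one]
        have ha'O : a' ∈ Om d := h.mem_om_of_St ha'D (h.mem_St_of hdO (e1 ▸ hbO))
        have c1 := (h.commute_of_prod hdO hbO hne ha'O ha's).1
        exact hne (by rw [← e1, cj_eq_self.2 c1])
  have hz := CfsgLib.Involutions.zstar (C ⧸ N) (dC : C ⧸ N) hiso
  have : Fact (Nat.Prime 2) := ⟨Nat.prime_two⟩
  set O := Cfsg.pPrimeCore 2 (C ⧸ N) with hO
  have hOodd : Odd (Nat.card O) := by
    rw [Nat.odd_iff, ← Nat.two_dvd_ne_zero]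
    exact CfsgLib.PCore.not_dvd_card_pPrimeCore
  let K : Subgroup C := O.comap (QuotientGroup.mk' N)
  have hKpow : ∀ k : C, (k : C ⧸ N) ∈ O → (k : C ⧸ N) ^ Nat.card O = 1 := fun k hk => by
    have := congrArg Subtype.val (pow_card_eq_one' (x := (⟨_, hk⟩ : O)))
    rwa [Subgroup.coe_pow, OneMemClass.coe_one] at this
  have hKm : ∀ k : C, (k : C ⧸ N) ∈ O →
      ((k : G) ^ Nat.card O = 1 ∨ (k : G) ^ Nat.card O = s) := fun k hk => by
    have := hKpow k hk
    rw [← QuotientGroup.mk_pow, QuotientGroup.eq_one_iff, hN, Subgroup.coe_pow] at this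
    exact this
  -- the part centralising the pair is trivial
  have hL : ∀ k : C, (k : C ⧸ N) ∈ O → Commute (k : G) d → Commute (k : G) b → k ∈ N := by
    intro k hk hka hkb
    let L : Subgroup G := K.map C.subtype ⊓ Subgroup.centralizer {d} ⊓ Subgroup.centralizer {b}
    have memL : ∀ {y}, y ∈ L ↔ (∃ k : C, (k : C ⧸ N) ∈ O ∧ (k : G) = y) ∧ Commute y d ∧ Commute y b := by
      intro y
      simp only [L, Subgroup.mem_inf, Subgroup.mem_map, Subgroup.mem_centralizer_singleton_iff, and_assoc]
      exact Iff.rfl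
    rw [hN]
    refine h.small hb L (fun y hy => (memL.1 hy).2) ?_ ?_ (k : G) (memL.2 ⟨⟨k, hk, rfl⟩, hka, hkb⟩)
    · intro t y hta htb hy
      obtain ⟨⟨j, hj, rfl⟩, hya, hyb⟩ := memL.1 hy
      refine memL.2 ⟨⟨⟨t, memC.2 (hta.mul_right htb)⟩ * j * ⟨t, memC.2 (hta.mul_right htb)⟩⁻¹, ?_, rfl⟩, ?_, ?_⟩
      · rw [QuotientGroup.mk_mul, QuotientGroup.mk_mul, QuotientGroup.mk_inv]
        exact (inferInstance : O.Normal).conj_mem _ hj _
      · exact (hta.mul_left hya).mul_left hta.inv_left
      · exact (htb.mul_left hyb).mul_left htb.inv_left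
    · intro y hy
      obtain ⟨⟨j, hj, rfl⟩, -, -⟩ := memL.1 hy
      exact ⟨_, hOodd, hKm j hj⟩
  -- and so is the part preserving the component
  have hSt : ∀ k : C, (k : C ⧸ N) ∈ O → (k : G) ∈ St d → (k : C ⧸ N) = 1 := by
    intro k hk hkS
    have hks : Commute (k : G) s := memC.1 k.2
    have q : cj (k : G) d * cj (k : G) b = s := by rw [← cj_mul, cj_eq_self.2 hks]
    have h2 : cj ((k : G) * k) d = d ∧ cj ((k : G) * k) b = b := by
      rcases h.conj_pair hb hkS hks with e | e
      · have e' : cj (k : G) b = b := by rw [e] at q; exact mul_left_cancel q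
        exact ⟨by rw [← cj_cj, e, e], by rw [← cj_cj, e', e']⟩
      · have e' : cj (k : G) b = d := by rw [e, hs, hdb.eq] at q; exact mul_left_cancel q
        exact ⟨by rw [← cj_cj, e, e'], by rw [← cj_cj, e', e]⟩
    have hk2 : ((k * k : C) : C ⧸ N) ∈ O := by rw [QuotientGroup.mk_mul]; exact mul_mem hk hk
    have := (QuotientGroup.eq_one_iff _).2 (hL (k * k) hk2 (cj_eq_self.1 h2.1) (cj_eq_self.1 h2.2))
    rw [QuotientGroup.mk_mul] at this
    obtain ⟨j, hj⟩ := hOodd
    have hp := hKpow k hk
    rwa [hj, pow_succ, pow_mul, pow_two, this, one_pow, one_mul] at hp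
  have hinvert : ∀ ω (hω : ω ∈ Om d) (hc : Commute ω s), ∀ x ∈ O,
      ((⟨ω, memC.2 hc⟩ : C) : C ⧸ N) * x * ((⟨ω, memC.2 hc⟩ : C) : C ⧸ N)⁻¹ = x⁻¹ := by
    intro ω hω hc x hx
    set w : C ⧸ N := ((⟨ω, memC.2 hc⟩ : C) : C ⧸ N) with hw
    have hww : w * w = 1 := by
      rw [hw, ← QuotientGroup.mk_mul, show (⟨ω, memC.2 hc⟩ : C) * ⟨ω, memC.2 hc⟩ = 1 from
        Subtype.ext (h.sq_one (h.om_sub hω)), QuotientGroup.mk_one]
    let σ : O →* O := (MulAut.conjNormal w : MulAut O).toMonoidHom
    have hσ : ∀ z : O, (σ z : C ⧸ N) = w * z * w⁻¹ := fun z => MulAut.conjNormal_apply w z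
    have hfp : MonoidHom.FixedPointFree σ := by
      intro z hz
      have hz' : w * (z : C ⧸ N) * w⁻¹ = z := by rw [← hσ, hz]
      obtain ⟨k, hk⟩ := QuotientGroup.mk_surjective (z : C ⧸ N)
      have hkO : (k : C ⧸ N) ∈ O := hk ▸ z.2
      rw [← hk, hw, ← QuotientGroup.mk_inv, ← QuotientGroup.mk_mul, ← QuotientGroup.mk_mul] at hz'
      have hz'' := QuotientGroup.eq.1 hz'.symm
      rw [hN, Subgroup.coe_mul, Subgroup.coe_mul, Subgroup.coe_mul, Subgroup.coe_inv, Subgroup.coe_inv] at hz''
      change ((k : G)⁻¹ * cj ω (k : G) = 1 ∨ (k : G)⁻¹ * cj ω (k : G) = s) at hz''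
      refine Subtype.ext ?_
      show (z : C ⧸ N) = 1
      rw [← hk]
      refine hSt k hkO ?_
      rcases hz'' with q | q
      · exact h.cent_le hω (cj_eq_self.1 (inv_mul_eq_one.1 q).symm).symm
      · exfalso
        have q' : cj ω (k : G) = (k : G) * s := inv_mul_eq_iff_eq_mul.1 q
        obtain ⟨j, hj⟩ := hOodd
        have hp : cj ω ((k : G) ^ Nat.card O) = (k : G) ^ Nat.card O * s := by
          have e1 : cj ω ((k : G) ^ Nat.card O) = (cj ω (k : G)) ^ Nat.card O := conj_pow.symm
          rw [e1, q', (memC.1 k.2).mul_pow]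
          congr 1
          rw [hj, pow_succ, pow_mul, pow_two, hss, one_pow, one_mul]
        have hfix : cj ω ((k : G) ^ Nat.card O) = (k : G) ^ Nat.card O := by
          rcases hKm k hkO with e | e <;> rw [e]
          · simp [cj]
          · exact cj_eq_self.2 hc
        rw [hfix] at hp
        exact hs1 (mul_eq_left.1 hp.symm)
    have h2 : Function.Involutive σ := fun z => Subtype.ext (by
      rw [hσ, hσ, show w * (w * (z : C ⧸ N) * w⁻¹) * w⁻¹ = (w * w) * z * (w * w)⁻¹ by group, hww]; simp)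
    have := congrArg Subtype.val (congrFun (hfp.coe_eq_inv_of_involutive h2) ⟨x, hx⟩)
    rw [hσ] at this
    simpa using this
  obtain ⟨l, hlen, hlm, hlp⟩ := h.three_prod hb
  have hOtriv : ∀ x ∈ O, x = 1 := by
    intro x hx
    let f : C →* C ⧸ N := QuotientGroup.mk' N
    let lC : List C := l.pmap (fun y hy => (⟨y, memC.2 hy⟩ : C)) fun y hy => (hlm y hy).2
    have hall : ∀ w ∈ lC.map f, w * x * w⁻¹ = x⁻¹ := by
      intro w hw
      obtain ⟨y, hy, rfl⟩ := List.mem_map.1 hw
      obtain ⟨z, hz, rfl⟩ := List.mem_pmap.1 hy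
      exact hinvert z (hlm z hz).1 (hlm z hz).2 x hx
    have hkey := list_inv _ hall
    have hprod : (lC.map f).prod = 1 := by
      rw [← map_list_prod]
      refine (QuotientGroup.eq_one_iff _).2 ((hN _).2 (Or.inr ?_))
      rw [show ((lC.prod : C) : G) = (lC.map C.subtype).prod from map_list_prod C.subtype lC]
      have : lC.map C.subtype = l := by simp [lC]
      rw [this, hlp]
    rw [hprod, one_mul, inv_one, mul_one, List.length_map, List.length_pmap, hlen,
      if_neg (by decide)] at hkey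
    obtain ⟨k, rfl⟩ := QuotientGroup.mk_surjective x
    obtain ⟨j, hj⟩ := hOodd
    have hp := hKpow k hx
    rwa [hj, pow_succ, pow_mul, pow_two, eq_inv_iff_mul_eq_one.1 hkey, one_pow, one_mul] at hp
  have hfin := hOtriv _ (hz ((⟨g, memC.2 hg⟩ : C) : C ⧸ N))
  rw [mul_inv_eq_one, ← QuotientGroup.mk_inv, ← QuotientGroup.mk_mul, ← QuotientGroup.mk_mul] at hfin
  have hfin' := QuotientGroup.eq.1 hfin.symm
  rw [hN, Subgroup.coe_mul, Subgroup.coe_inv] at hfin'
  change d⁻¹ * cj g d = 1 ∨ d⁻¹ * cj g d = s at hfin'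
  refine h.mem_St_of hdO ?_
  rcases hfin' with q | q
  · rw [← inv_mul_eq_one.1 q]; exact hdO
  · rw [inv_mul_eq_iff_eq_mul.1 q, hs, ← mul_assoc, hdd, one_mul]; exact hbO

/-- The centraliser of the product of a commuting pair preserves the component. -/
theorem cent_pair {a b : G} (ha : a ∈ Om d) (hb : b ∈ Om d) (hab : Commute a b) (hne : a ≠ b) {g : G}
    (hg : Commute g (a * b)) : g ∈ St d := by
  obtain ⟨hA⟩ := h.exists_at (h.om_sub ha)
  have e : Dc a = Dc d := Dc_eq (h.om_sub ha)
  rw [← h.st_eq ha]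
  exact hA.cent_pair_at (b := b) ⟨by rw [e]; exact h.om_sub hb, hne.symm, hab⟩ hg

end Hyp

end CfsgLib.ThreeTrans.UCent
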