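import Mathlib
import Cfsg.Agent.Lib.ThreeTrans.UCent.Pair

/-! The component is the whole class: an involution commuting with a conjugate outside it and with the
product of a pair would be the product of a triple of independent members, and then the involution would be
conjugate within its centraliser to a member collinear with two of the factors. -/

set_option autoImplicit false
set_option linter.unusedSectionVars false

namespace CfsgLib.ThreeTrans.UCent

open CfsgLib.ThreeTrans.LocalSymThree (nbr)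

universe u

/-- A power of the product carries one of two involutions to the other when the order is odd. -/
theorem swap_conj {G : Type*} [Group G] {x y : G} (hx : x * x = 1) (hy : y * y = 1) {j : ℕ}
    (h : (x * y) ^ (2 * j + 1) = 1) : cj ((x * y) ^ (j + 1)) y = x := by
  have hinv : ∀ n, y * ((x * y) ^ n)⁻¹ = (x * y) ^ n * y := fun n => by
    induction n with
    | zero => simp
    | succ n ih =>
      have h1 : y * (x * y)⁻¹ = x * y * y := by
        rw [mul_inv_rev, inv_eq_of_mul_eq_one_right hx, inv_eq_of_mul_eq_one_right hy, ← mul_assoc, hy, one_mul,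
          mul_assoc, hy, mul_one]
      rw [pow_succ', mul_inv_rev, ← mul_assoc, ih, mul_assoc, h1, ← mul_assoc ((x * y) ^ n) (x * y) y,
        pow_mul_comm']
  rw [cj, mul_assoc, hinv, ← mul_assoc, ← pow_add, show j + 1 + (j + 1) = 2 * j + 1 + 1 by omega, pow_succ, h,
    one_mul, mul_assoc, hy, mul_one]

/-- A power of the product times one of two involutions is conjugate to one of them. -/
theorem swap_mid {G : Type*} [Group G] {x y : G} (hx : x * x = 1) (hy : y * y = 1) (k : ℕ) :
    ∃ g, (x * y) ^ k * y = cj g y ∨ (x * y) ^ k * y = cj g x := by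
  induction k using Nat.twoStepInduction with
  | zero => exact ⟨1, Or.inl (by simp [cj])⟩
  | one => exact ⟨1, Or.inr (by simp [cj, mul_assoc, hy])⟩
  | more n ih _ =>
    obtain ⟨g, hg⟩ := ih
    refine ⟨x * y * g, ?_⟩
    have e : (x * y) ^ (n + 2) * y = cj (x * y) ((x * y) ^ n * y) := by
      rw [cj, pow_succ, pow_succ', mul_inv_rev, inv_eq_of_mul_eq_one_right hx, inv_eq_of_mul_eq_one_right hy]
      simp [mul_assoc, ← mul_assoc y y, hy]
    exact hg.imp (fun q => by rw [e, q, cj_cj]) fun q => by rw [e, q, cj_cj]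

variable {G : Type u} [Group G] [Finite G] {d : G}

/-- A product of at most three commuting members of the component. -/
def Short (d t : G) : Prop :=
  t ∈ Om d ∨ (∃ a ∈ Om d, ∃ b ∈ Om d, Commute a b ∧ a ≠ b ∧ t = a * b) ∨
    ∃ a ∈ Om d, ∃ b ∈ Om d, ∃ c ∈ Om d, (Commute a b ∧ Commute a c ∧ Commute b c) ∧
      (a ≠ b ∧ a ≠ c ∧ b ≠ c) ∧ t = a * b * c

theorem Short.cj {k t : G} (hk : k ∈ St d) (ht : Short d t) : Short d (cj k t) := by
  have ne : ∀ {a b : G}, a ≠ b → UCent.cj k a ≠ UCent.cj k b := fun n e => n (cj_inj e)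
  rcases ht with q | ⟨a, ha, b, hb, c1, n1, rfl⟩ | ⟨a, ha, b, hb, c, hc, ⟨c1, c2, c3⟩, ⟨n1, n2, n3⟩, rfl⟩
  · exact Or.inl (St_maps hk q)
  · exact Or.inr (Or.inl ⟨_, St_maps hk ha, _, St_maps hk hb, commute_cj c1, ne n1, cj_mul k a b⟩)
  · exact Or.inr (Or.inr ⟨_, St_maps hk ha, _, St_maps hk hb, _, St_maps hk hc,
      ⟨commute_cj c1, commute_cj c2, commute_cj c3⟩, ⟨ne n1, ne n2, ne n3⟩, by rw [cj_mul, cj_mul]⟩)

namespace Hyp

variable (h : Hyp d)
include h

theorem exists_diff {s : Pt} {a : G} (ha : h.MemN s.1 a) {w : W} (hw : onLine s.1 w = true) :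
    ∃ x, h.MemN s.1 x ∧ h.co (a * x) = w := by
  classical
  have hinj : Set.InjOn (fun x => h.co (a * x)) {x | h.MemN s.1 x} := fun x hx y hy e => by
    rcases h.co_eq (MemN.diff h s.iso ha hx).1 (MemN.diff h s.iso ha hy).1 e with k | k
    · exact (mul_left_cancel k).symm
    · rw [mul_assoc] at k
      exact absurd (mul_left_cancel k ▸ hy.1.1) hx.2
  have hsub : (fun x => h.co (a * x)) '' {x | h.MemN s.1 x} ⊆ {w | onLine s.1 w = true} := by
    rintro _ ⟨x, hx, rfl⟩
    exact (MemN.diff h s.iso ha hx).2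
  have := Set.eq_of_subset_of_ncard_le hsub
    (by rw [card_line s.ne_zero, hinj.ncard_image, h.card_fibre]) (Set.toFinite _)
  obtain ⟨x, hx, e⟩ := (Set.ext_iff.1 this w).2 hw
  exact ⟨x, hx, e⟩

theorem exists_pt_mem {p : W} (hp : iso p = true) {x : G} (hx : h.MemN p x) :
    ∃ s : Pt, onLine s.1 p = true ∧ h.MemN s.1 x := by
  obtain ⟨s, hs, -⟩ := exists_pt hp
  exact ⟨s, hs, h.memN_of_mem ⟨hx.1.1, hx.1.2.1, fun y => by
    rw [hx.1.2.2, tv_same s.iso (iso_iff.1 hp).2 hs]⟩⟩

/-- An involution of the elementary subgroup is short. -/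
theorem short_A {y : G} (hy : y ∈ h.A) (hy1 : y ≠ 1) : Short d y := by
  have hyd := h.A_cd hy
  have hdO : d ∈ Om d := Or.inl rfl
  have hflat : ∀ u, flat u = true → h.act y u = u := fun u hu => h.act_A_flat hy hu
  have him : ∀ u, flat (h.act y u + u) = true := by
    intro u
    have key : ∀ v, flat v = true → bt (h.act y u + u) v = false := fun v hv => by
      have e1 : bt (h.act y u) v = bt (h.act y u) (h.act y v) := by rw [hflat v hv]
      rw [bt_add, e1, h.act_bt hyd, Bool.xor_self]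
    have f5 := self_perp_check.2.2.1
    have f80 := self_perp_check.2.2.2
    refine flat_of_perp f5 (by decide +kernel) f80 (by decide +kernel) (perp_iff.2 ⟨key _ f5, ?_⟩)
      (perp_iff.2 ⟨key _ f80, ?_⟩)
    · exact key _ (flat_facts f5 f5).2.1
    · exact key _ (flat_facts f80 f80).2.1
  -- a lift of a vector on the line of a member
  have lift : ∀ {s : Pt} {a q : G}, h.MemN s.1 a → q ∈ h.Q → onLine s.1 (h.co q) = true →
      ∃ x, h.MemN s.1 x ∧ (q = a * x ∨ q = a * x * d) := by
    intro s a q ha hq hl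
    obtain ⟨x, hx, e⟩ := h.exists_diff ha hl
    exact ⟨x, hx, h.co_eq (MemN.diff h s.iso ha hx).1 hq e⟩
  obtain ⟨p, r, hp, hr, hg⟩ := unipotent (g := h.act y) (h.act_add hyd) (h.act_om hyd) (h.act_qW hyd) hflat him
  have nbrO : ∀ {s : Pt} {x : G}, h.MemN s.1 x → x ∈ Om d := fun {s x} hx =>
    Or.inr (Or.inl (MemN.mem_nbr h s.iso hx))
  have neD : ∀ {s : Pt} {x : G}, h.MemN s.1 x → x ≠ d := fun {s x} hx => (MemN.mem_nbr h s.iso hx).2.1
  have trivialCase : (∀ u, h.act y u = u) → Short d y := by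
    intro k
    have hQ := h.mem_Q_of_act hyd k
    by_cases h0 : h.co y = 0
    · rcases (h.co_ker y hQ).1 h0 with q | q
      · exact absurd q hy1
      · exact Or.inl (q ▸ hdO)
    have hi := flat_iso ((h.A_Q y hQ).1 hy) h0
    obtain ⟨a0, ha0⟩ := h.exists_mem hi
    obtain ⟨s, hs, ha⟩ := h.exists_pt_mem hi ha0
    obtain ⟨x, hx, e⟩ := lift ha hQ hs
    have hne : a0 ≠ x := fun q => by
      subst q
      rcases e with e | e <;> rw [h.sq_one ha.1.1] at e
      · exact hy1 e
      · rw [one_mul] at e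
        exact h0 (e ▸ h.co_d)
    have hc := (h.comm_pt ha hx).2 (perp_self s.iso)
    rcases e with e | e
    · exact Or.inr (Or.inl ⟨_, nbrO ha, _, nbrO hx, hc, hne, e⟩)
    · exact Or.inr (Or.inr ⟨_, nbrO ha, _, nbrO hx, _, hdO, ⟨hc, ha.1.2.1, hx.1.2.1⟩,
        ⟨hne, neD ha, neD hx⟩, e⟩)
  have oneCase : ∀ v, flat v = true → v ≠ 0 → (∀ u, h.act y u = tv v u) → Short d y := by
    intro v hv hv0 k
    obtain ⟨a, haA, ha0⟩ := h.exists_memN_flat hv hv0
    obtain ⟨s, hs, ha⟩ := h.exists_pt_mem (flat_iso hv hv0) ha0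
    have hc : Commute (a * y) d := ha.1.2.1.mul_left hyd
    set q := a * y with hq
    have hQ : q ∈ h.Q := h.mem_Q_of_act hc fun u => by
      rw [hq, h.act_mul ha.1.2.1 hyd, k, ha0.1.2.2, tv_invol (flat_iso hv hv0)]
    have hya : y = a * q := by rw [hq, ← mul_assoc, h.A_sq a haA, one_mul]
    have hqflat := (h.A_Q q hQ).1 (mul_mem haA hy)
    by_cases hl : onLine s.1 (h.co q) = true
    · obtain ⟨x, hx, e⟩ := lift ha hQ hl
      rcases e with e | e <;> rw [e] at hya
      · rw [← mul_assoc, h.A_sq a haA, one_mul] at hya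
        exact Or.inl (hya ▸ nbrO hx)
      · rw [← mul_assoc, ← mul_assoc, h.A_sq a haA, one_mul] at hya
        exact Or.inr (Or.inl ⟨_, nbrO hx, _, hdO, hx.1.2.1, neD hx, hya⟩)
    have hwi := flat_iso hqflat fun e => hl (by rw [e]; exact onLine_zero _)
    obtain ⟨b0, hb0⟩ := h.exists_mem hwi
    obtain ⟨t, ht, hb⟩ := h.exists_pt_mem hwi hb0
    obtain ⟨x, hx, e⟩ := lift hb hQ ht
    have hbx : b0 ≠ x := fun q' => by
      subst q'
      rcases e with e | e <;> rw [h.sq_one hb.1.1] at e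
      · exact hl (by rw [e, h.co_one]; exact onLine_zero _)
      · rw [one_mul] at e; exact hl (by rw [e, h.co_d]; exact onLine_zero _)
    have hst : s ≠ t := fun e' => hl (e' ▸ ht)
    have hperp : perp s.1 t.1 = true := perp_symm (perp_of_onLine (perp_symm
      (perp_of_onLine (flat_perp hv hqflat) (onLine_symm ht (iso_iff.1 hwi).2))) (onLine_symm hs hv0))
    have hab := (h.comm_pt ha hb).2 hperp
    have hax := (h.comm_pt ha hx).2 hperp
    have triple : Short d (a * (b0 * x)) := Or.inr (Or.inr ⟨_, nbrO ha, _, nbrO hb, _, nbrO hx,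
      ⟨hab, hax, (h.comm_pt hb hx).2 (perp_self t.iso)⟩,
      ⟨fun q' => hst (h.pt_unique ha (q' ▸ hb)), fun q' => hst (h.pt_unique ha (q' ▸ hx)), hbx⟩,
      (mul_assoc _ _ _).symm⟩)
    rcases e with e | e
    · rw [hya, e]; exact triple
    obtain ⟨u, hu, hut⟩ := exists_perp_bt s.iso (Bool.eq_false_iff.2 hl)
    obtain ⟨q', hq', rfl⟩ := h.co_surj u
    have hbxQ := (MemN.diff h t.iso hb hx).1
    have hco : h.co (b0 * x) = h.co q := by rw [e, h.co_mul _ hbxQ _ h.dQ, h.co_d, add_zero]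
    have hfix : cj q' (b0 * x) = b0 * x * d := by
      rcases h.co_eq hbxQ (h.Q_norm q' (h.Q_le q' hq') _ hbxQ)
        (by rw [h.act_co (h.Q_le q' hq') hbxQ, h.act_Q hq']) with k' | k'
      · exfalso
        have := (h.comm q' hq' _ hbxQ).1 (cj_eq_self.1 k').eq
        rw [hco, hut] at this
        exact Bool.noConfusion this
      · exact k'
    have hk : q' ∈ St d := h.cent_le hdO (h.Q_le q' hq')
    have hey : y = cj q' (a * (b0 * x)) := by
      rw [cj_mul, cj_eq_self.2 (MemN.comm_Q h s.ne_zero ha hq' hu), hfix, hya, e]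
    rw [hey]
    exact triple.cj hk
  by_cases hr0 : r = 0
  · have k : ∀ u, h.act y u = tv p u := fun u => by rw [hg, hr0, tv_zero]
    by_cases hp0 : p = 0
    · exact trivialCase fun u => by rw [k, hp0, tv_zero]
    · exact oneCase p hp hp0 k
  by_cases hp0 : p = 0
  · exact oneCase r hr hr0 fun u => by rw [hg, hp0, tv_zero]
  have hpi := flat_iso hp hp0
  have hri := flat_iso hr hr0
  by_cases hl : onLine p r = true
  · exact trivialCase fun u => by rw [hg, ← tv_same hpi hr0 hl, tv_invol hpi]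
  obtain ⟨a, haA, ha0⟩ := h.exists_memN_flat hp hp0
  obtain ⟨b, hbA, hb0⟩ := h.exists_memN_flat hr hr0
  obtain ⟨s, hs, ha⟩ := h.exists_pt_mem hpi ha0
  obtain ⟨t, ht, hb⟩ := h.exists_pt_mem hri hb0
  have habd := h.A_cd (mul_mem haA hbA)
  set q := a * b * y with hq
  have hQ : q ∈ h.Q := h.mem_Q_of_act (habd.mul_left hyd) fun u => by
    rw [hq, h.act_mul habd hyd, h.act_mul ha.1.2.1 hb.1.2.1, hg, hb0.1.2.2, ha0.1.2.2,
      tv_comm hpi hri (flat_perp hp hr), tv_invol hpi, tv_invol hri]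
  have hya : y = a * b * q := by rw [hq, ← mul_assoc, h.A_sq _ (mul_mem haA hbA), one_mul]
  have hqflat := (h.A_Q q hQ).1 (mul_mem (mul_mem haA hbA) hy)
  obtain ⟨w2, hw2, hw1⟩ : ∃ w2, onLine r w2 = true ∧ onLine p (h.co q + w2) = true := by
    have k := List.all_eq_true.1 self_perp_check.2.1 p (mem_flatList hp)
    simp only [Bool.or_eq_true, beq_iff_eq, hp0, false_or] at k
    have k' := List.all_eq_true.1 k r (mem_flatList hr)
    rw [Bool.eq_false_iff.2 hl, Bool.false_or] at k'
    obtain ⟨w, hw, hw'⟩ := List.any_eq_true.1 (List.all_eq_true.1 k' _ (mem_flatList hqflat))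
    exact ⟨w, onLine_iff.2 (by simpa using hw), hw'⟩
  have onS : ∀ {v : W}, onLine p v = true → onLine s.1 v = true := fun k => onLine_trans (onLine_symm hs hp0) k s.ne_zero
  have onT : ∀ {v : W}, onLine r v = true → onLine t.1 v = true := fun k => onLine_trans (onLine_symm ht hr0) k t.ne_zero
  obtain ⟨x, hx, ex⟩ := h.exists_diff ha (onS hw1)
  obtain ⟨x', hx', ex'⟩ := h.exists_diff hb (onT hw2)
  have hflatS : flat s.1 = true := flat_line hp (onLine_symm hs hp0)
  have hflatT : flat t.1 = true := flat_line hr (onLine_symm ht hr0)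
  have hxA := MemN.mem_A h hflatS s.ne_zero hx
  have hxA' := MemN.mem_A h hflatT t.ne_zero hx'
  have hst : s ≠ t := fun e => hl (onLine_trans (e ▸ hs) ht hp0)
  have hcxx := h.A_comm hxA hxA'
  have hxx : x ≠ x' := fun e => hst (h.pt_unique hx (e ▸ hx'))
  have heq : a * b * (a * x * (b * x')) = x * x' := by
    calc a * b * (a * x * (b * x')) = a * (b * a) * x * b * x' := by simp only [mul_assoc]
      _ = a * a * (b * x) * b * x' := by rw [(h.A_comm hbA haA).eq]; simp only [mul_assoc]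
      _ = x * (b * b) * x' := by rw [(h.A_comm hbA hxA).eq, h.A_sq a haA, one_mul]; simp only [mul_assoc]
      _ = x * x' := by rw [h.A_sq b hbA, mul_one]
  have hQ2 := mul_mem (MemN.diff h s.iso ha hx).1 (MemN.diff h t.iso hb hx').1
  rcases h.co_eq hQ2 hQ (by rw [h.co_mul _ (MemN.diff h s.iso ha hx).1 _ (MemN.diff h t.iso hb hx').1, ex, ex',
      add_assoc, W.add_self, add_zero]) with e | e <;> rw [e] at hya
  · rw [heq] at hya
    exact Or.inr (Or.inl ⟨_, nbrO hx, _, nbrO hx', hcxx, hxx, hya⟩)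
  · rw [← mul_assoc (a * b), heq] at hya
    exact Or.inr (Or.inr ⟨_, nbrO hx, _, nbrO hx', _, hdO, ⟨hcxx, hx.1.2.1, hx'.1.2.1⟩,
      ⟨hxx, neD hx, neD hx'⟩, hya⟩)

/-- An involution of the centraliser is short. -/
theorem short {t : G} (hc : Commute t d) (htt : t * t = 1) (ht1 : t ≠ 1) : Short d t := by
  obtain ⟨g, hg, hgA⟩ := h.conj_into hc htt
  have := (h.short_A hgA fun e => ht1 (cj_inj (g := g) (e.trans (by simp [cj])))).cj
    (inv_mem (h.cent_le (Or.inl rfl) hg) : g⁻¹ ∈ St d)
  rwa [cj_cj, inv_mul_cancel, cj_one] at this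

/-- A conjugate outside the component has product of odd order with every member inside. -/
theorem odd_prod {x y : G} (hx : x ∈ Dc d) (hxO : x ∉ Om d) (hy : y ∈ Om d) :
    ∃ j, (x * y) ^ (2 * j + 1) = 1 := by
  rcases Nat.even_or_odd' (orderOf (x * y)) with ⟨k, hk | hk⟩
  swap
  · exact ⟨k, hk ▸ pow_orderOf_eq_one _⟩
  exfalso
  have hxx := h.sq_one hx
  have hyy := h.sq_one (h.om_sub hy)
  set z := (x * y) ^ k with hz
  have hpos := orderOf_pos (x * y)
  have hz1 : z ≠ 1 := fun e => by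
    have := Nat.le_of_dvd (by omega) (orderOf_dvd_of_pow_eq_one e)
    omega
  have hzz : z * z = 1 := by rw [hz, ← pow_add, ← two_mul, ← hk, pow_orderOf_eq_one]
  have hczy : Commute z y := by
    have hyc : y * (x * y) * y⁻¹ = (x * y)⁻¹ := by
      rw [inv_eq_of_mul_eq_one_right hyy, mul_inv_rev, inv_eq_of_mul_eq_one_right hyy,
        inv_eq_of_mul_eq_one_right hxx]
      simp [mul_assoc, hyy]
    have : y * z * y⁻¹ = z := by rw [hz, ← conj_pow, hyc, inv_pow]; exact inv_eq_of_mul_eq_one_right hzz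
    exact (mul_inv_eq_iff_eq_mul.1 this).symm
  have hczx : Commute z x := by
    have h2 := (Commute.pow_self (x * y) k).mul_right hczy
    rwa [← hz, mul_assoc, hyy, mul_one] at h2
  have hw : z * y ∈ Dc d := by
    obtain ⟨g, e | e⟩ := swap_mid hxx hyy k
    · rw [hz, e]; exact isConj_cj g (h.om_sub hy)
    · rw [hz, e]; exact isConj_cj g hx
  have hcw : Commute y (z * y) := (hczy.symm).mul_right (Commute.refl y)
  have hwO : z * y ∈ Om d := h.om_comm hy hw hcw
  have := h.cent_pair hwO hy hcw.symm (fun e => hz1 (mul_eq_right.1 e)) (g := x)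
    (by rw [mul_assoc, hyy, mul_one]; exact hczx.symm)
  exact hxO (h.mem_om_of_St hx this)

/-- No conjugate outside commutes with the product of the involution and two members. -/
theorem no_triple_at {b c x : G} (hb : b ∈ nbr (Dc d) d) (hc : c ∈ nbr (Dc d) d) (hbc : Commute b c)
    (nbc : b ≠ c) (hx : x ∈ Dc d) (hxO : x ∉ Om d) : ¬ Commute x (d * b * c) := by
  intro hxt
  have hdO : d ∈ Om d := Or.inl rfl
  have hbO : b ∈ Om d := Or.inr (Or.inl hb)
  have hcO : c ∈ Om d := Or.inr (Or.inl hc)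
  obtain ⟨s, hs⟩ := h.nbr_iff_pt.1 hb
  obtain ⟨t, ht⟩ := h.nbr_iff_pt.1 hc
  by_cases hst : s = t
  · subst hst
    have hq := (MemN.diff h s.iso hs ht).1
    have hw : h.co (b * c) ≠ 0 := fun e => by
      rcases (h.co_ker _ hq).1 e with k | k
      · exact nbc ((eq_inv_of_mul_eq_one_left k).trans (h.inv_self hc.1))
      · exact hs.2 (by
          have : c = b * d := by rw [← k, ← mul_assoc, h.sq_one hb.1, one_mul]
          exact this ▸ hc.1)
    obtain ⟨v, hv⟩ : ∃ v, bt (h.co (b * c)) v = true := by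
      by_contra hn
      simp only [not_exists, Bool.not_eq_true] at hn
      exact hw (nondeg hn)
    obtain ⟨u, hu, rfl⟩ := h.co_surj v
    have hud := h.Q_le u hu
    have hfix : cj u (b * c) = b * c * d := by
      rcases h.co_eq hq (h.Q_norm u hud _ hq) (by rw [h.act_co hud hq, h.act_Q hu]) with k | k
      · exfalso
        have := (h.comm u hu _ hq).1 (cj_eq_self.1 k).eq
        rw [bt_comm, hv] at this
        exact Bool.noConfusion this
      · exact k
    have hk : u ∈ St d := h.cent_le hdO hud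
    have hX : Commute (cj u x) (b * c) := by
      have := commute_cj (g := u) hxt
      rw [mul_assoc d, cj_mul u d, cj_eq_self.2 hud, hfix,
        show d * (b * c * d) = b * c by rw [← mul_assoc, ((h.Q_le _ hq).symm).eq, mul_assoc, h.dd, mul_one]] at this
      exact this
    have hin := h.mem_om_of_St (isConj_cj u hx) (h.cent_pair hbO hcO hbc nbc hX)
    have := St_maps (inv_mem hk) hin
    rw [cj_cj, inv_mul_cancel, cj_one] at this
    exact hxO this
  -- a third member with the centre of the first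
  obtain ⟨b', hb', hbb'⟩ := h.exists_diff hs (onLine_self s.1)
  have hne : b ≠ b' := fun e => by
    rw [← e, h.sq_one hb.1, h.co_one] at hbb'
    exact s.ne_zero hbb'.symm
  have hperp := (h.comm_pt hs ht).1 hbc
  have cb : Commute b' b := (h.comm_pt hb' hs).2 (perp_self s.iso)
  have cc : Commute b' c := (h.comm_pt hb' ht).2 hperp
  set T := d * b * c with hT
  have hdT : Commute d T := ((Commute.refl d).mul_right hb.2.2).mul_right hc.2.2
  have hωT : Commute b' T := (hb'.1.2.1.mul_right cb).mul_right cc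
  have hb'O : b' ∈ Om d := Or.inr (Or.inl (MemN.mem_nbr h s.iso hb'))
  obtain ⟨i, hi⟩ := h.odd_prod hx hxO hdO
  obtain ⟨j, hj⟩ := h.odd_prod hx hxO hb'O
  have g1 := swap_conj (h.sq_one hx) h.dd hi
  have g2 := swap_conj (h.sq_one hx) (h.sq_one hb'.1.1) hj
  set k := ((x * b') ^ (j + 1))⁻¹ * (x * d) ^ (i + 1) with hk
  have hkd : cj k d = b' := by
    rw [hk, ← cj_cj, g1]
    exact (congrArg (cj _) g2.symm).trans (by rw [cj_cj, inv_mul_cancel, cj_one])
  have hkT : Commute k T :=
    ((hxt.mul_left hωT).pow_left _).inv_left.mul_left ((hxt.mul_left hdT).pow_left _)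
  have hkS : k ∈ St d := h.mem_St.2 (hkd.symm ▸ hb'O)
  set e := cj k b
  set f := cj k c
  have heq : b' * T = e * f := by
    have : b' * T = cj k (d * T) := by rw [cj_mul, hkd, cj_eq_self.2 hkT]
    rw [this, hT, ← mul_assoc, ← mul_assoc, h.dd, one_mul, cj_mul]
  have heO : e ∈ Om d := St_maps hkS hbO
  have hfO : f ∈ Om d := St_maps hkS hcO
  have hef : Commute e f := commute_cj hbc
  have hnef : e ≠ f := fun q => nbc (cj_inj q)
  have hdy : Commute d (e * f) := by rw [← heq]; exact (hb'.1.2.1.symm).mul_right hdT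
  obtain ⟨hde, hdf⟩ := h.commute_of_prod heO hfO hnef hdO hdy
  set q := b' * d * b
  have hqQ : q ∈ h.Q := by
    rw [show q = d * (b' * b) by simp only [q]; rw [hb'.1.2.1.eq, mul_assoc]]
    exact mul_mem h.dQ (MemN.diff h s.iso hb' hs).1
  have hefq : e * f = q * c := by rw [← heq, hT]; simp only [q, mul_assoc]
  have hact : ∀ u, h.act (e * f) u = h.act c u := fun u => by
    rw [hefq, h.act_mul (h.Q_le q hqQ) hc.2.2.symm, h.act_Q hqQ]
  have hqco : h.co q = s.1 := by
    rw [show q = d * (b' * b) by simp only [q]; rw [hb'.1.2.1.eq, mul_assoc],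
      h.co_mul _ h.dQ _ (MemN.diff h s.iso hb' hs).1, h.co_d, zero_add, cb.eq, hbb']
  -- the remaining factor would have the centre of the second
  have last : ∀ g : G, g ∈ Dc d → Commute g d → (∀ u, h.act g u = h.act c u) → q * c = d * g → False := by
    intro g hgD hgd hga e'
    have hg : h.MemN t.1 g := h.memN_of_mem ⟨hgD, hgd, fun u => by rw [hga, ht.1.2.2]⟩
    obtain ⟨hQg, hlg⟩ := MemN.diff h t.iso hg ht
    have : q = d * (g * c) := by
      rw [← mul_assoc, ← e', mul_assoc, h.sq_one hc.1, mul_one]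
    rw [← zero_add (h.co (g * c)), ← h.co_d, ← h.co_mul _ h.dQ _ hQg, ← this, hqco] at hlg
    exact hst (Pt.eq_of_line hlg).symm
  rcases h.pair_unique hc (h.om_sub heO) (h.om_sub hfO) hde.symm hdf.symm hef hact with r | r
  · refine last f (h.om_sub hfO) hdf.symm (fun u => ?_) (by rw [← hefq, r])
    rw [← hact, r, h.act_mul (Commute.refl d) hdf.symm, h.act_Q h.dQ]
  · refine last e (h.om_sub heO) hde.symm (fun u => ?_) (by rw [← hefq, r]; exact hde.symm.eq)
    rw [← hact, r, h.act_mul hde.symm (Commute.refl d), h.act_Q h.dQ]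

/-- No conjugate outside the component commutes with the product of a triple inside. -/
theorem no_triple {a b c x : G} (ha : a ∈ Om d) (hb : b ∈ Om d) (hc : c ∈ Om d) (hab : Commute a b)
    (hac : Commute a c) (hbc : Commute b c) (nab : a ≠ b) (nac : a ≠ c) (nbc : b ≠ c) (hx : x ∈ Dc d)
    (hxO : x ∉ Om d) : ¬ Commute x (a * b * c) := by
  obtain ⟨hA⟩ := h.exists_at (h.om_sub ha)
  have e : Dc a = Dc d := Dc_eq (h.om_sub ha)
  refine hA.no_triple_at ⟨by rw [e]; exact h.om_sub hb, nab.symm, hab⟩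
    ⟨by rw [e]; exact h.om_sub hc, nac.symm, hac⟩ hbc nbc (by rw [e]; exact hx) ?_
  rw [h.om_eq ha]
  exact hxO

/-- The component is the whole class. -/
theorem mem_om {x : G} (hx : x ∈ Dc d) : x ∈ Om d := by
  by_contra hxO
  obtain ⟨b, hb⟩ : (nbr (Dc d) d).Nonempty :=
    Set.nonempty_of_ncard_ne_zero (by rw [h.card_nbr]; norm_num)
  have hbO : b ∈ Om d := Or.inr (Or.inl hb)
  have hdO : d ∈ Om d := Or.inl rfl
  set z := d * b with hz
  have hzz : z * z = 1 := by
    rw [hz, mul_assoc, ← mul_assoc b d b, hb.2.2.symm.eq, mul_assoc d b b, h.sq_one hb.1, mul_one, h.dd]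
  have hxx := h.sq_one hx
  rcases Nat.even_or_odd' (orderOf (x * z)) with ⟨k, hk | hk⟩
  swap
  · have e1 := swap_conj hxx hzz (hk ▸ pow_orderOf_eq_one (x * z))
    have e : cj ((x * z) ^ (k + 1))⁻¹ x = z :=
      (congrArg (cj _) e1.symm).trans (by rw [cj_cj, inv_mul_cancel, cj_one])
    have hzD : d * b ∈ Dc d := by rw [← hz, ← e]; exact isConj_cj _ hx
    rw [hb.2.2.eq] at hzD
    exact h.mul_d_not hb.1 hb.2.2.symm hzD
  set t := (x * z) ^ k with ht
  have hpos := orderOf_pos (x * z)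
  have ht1 : t ≠ 1 := fun e => by
    have := Nat.le_of_dvd (by omega) (orderOf_dvd_of_pow_eq_one e)
    omega
  have htt : t * t = 1 := by rw [ht, ← pow_add, ← two_mul, ← hk, pow_orderOf_eq_one]
  have hctz : Commute t z := by
    have hzc : z * (x * z) * z⁻¹ = (x * z)⁻¹ := by
      rw [inv_eq_of_mul_eq_one_right hzz, mul_inv_rev, inv_eq_of_mul_eq_one_right hzz,
        inv_eq_of_mul_eq_one_right hxx]
      simp [mul_assoc, hzz]
    have : z * t * z⁻¹ = t := by rw [ht, ← conj_pow, hzc, inv_pow]; exact inv_eq_of_mul_eq_one_right htt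
    exact (mul_inv_eq_iff_eq_mul.1 this).symm
  have hctx : Commute t x := by
    have := (Commute.pow_self (x * z) k).mul_right hctz
    rwa [← ht, mul_assoc, hzz, mul_one] at this
  have htS : t ∈ St d := h.cent_pair hdO hbO hb.2.2 hb.2.1.symm hctz
  obtain ⟨w, hw, htw⟩ := h.exists_fixed htS htt
  obtain ⟨hW⟩ := h.exists_at (h.om_sub hw)
  have eO := h.om_eq hw
  have eD : Dc w = Dc d := Dc_eq (h.om_sub hw)
  rcases hW.short htw htt ht1 with q | ⟨a, ha, b', hb', c1, n1, q⟩ |
    ⟨a, ha, b', hb', c, hc, ⟨c1, c2, c3⟩, ⟨n1, n2, n3⟩, q⟩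
  · rw [eO] at q
    exact hxO (h.om_comm q hx hctx)
  · rw [eO] at ha hb'
    exact hxO (h.mem_om_of_St hx (h.cent_pair ha hb' c1 n1 (q ▸ hctx.symm)))
  · rw [eO] at ha hb' hc
    exact h.no_triple ha hb' hc c1 c2 c3 n1 n2 n3 hx hxO (q ▸ hctx.symm)

theorem dc_eq : Dc d = Om d := Set.Subset.antisymm (fun _ hx => h.mem_om hx) fun _ hx => h.om_sub hx

end Hyp

end CfsgLib.ThreeTrans.UCent
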