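import Mathlib
import Cfsg.Agent.Lib.ThreeTrans.UCent.Connect
import Cfsg.Agent.Lib.ThreeTrans.PolarTwins.Main
import Cfsg.Agent.Lib.ThreeTrans.Classif.UnitNumbers
import Cfsg.Agent.Lib.ThreeTrans.Classif.KindPts
import Cfsg.Agent.Lib.ThreeTrans.Classif.UnitKindPoints
import Cfsg.Agent.Lib.ThreeTrans.Tower.Orders

/-! The group is `PSU₆(2)`: the class generates a group recognised by the noncentral 2-core of the members
commuting with one of them, and counting makes it the whole group. -/

set_option autoImplicit false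
set_option linter.unusedSectionVars false
set_option maxRecDepth 100000
set_option Elab.async false
set_option linter.unusedSimpArgs false

namespace CfsgLib.ThreeTrans.UCent

open CfsgLib.ThreeTrans CfsgLib.ThreeTrans.Classif
open CfsgLib.ThreeTrans.LocalSymThree (nbr)

universe u

theorem iso_sum_check : all1 (fun x => any1 fun i => (iso i || i == 0) && (iso (x + i) || x + i == 0)) = true := by
  decide +kernel

variable {G : Type u} [Group G] [Finite G] {d : G}

namespace Hyp

variable (h : Hyp d)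
include h

theorem Q_le_closure {q : G} (hq : q ∈ h.Q) : q ∈ Subgroup.closure (Dc d) := by
  set H := Subgroup.closure (Dc d)
  have hdH : d ∈ H := Subgroup.subset_closure h.d_mem
  have lift : ∀ w : W, iso w = true ∨ w = 0 → ∀ p ∈ h.Q, h.co p = w → p ∈ H := by
    intro w hw p hp e
    rcases hw with hw | hw
    · obtain ⟨a0, ha0⟩ := h.exists_mem hw
      obtain ⟨s, hs, ha⟩ := h.exists_pt_mem hw ha0
      obtain ⟨x, hx, ex⟩ := h.exists_diff ha hs
      have hax : a0 * x ∈ H := mul_mem (Subgroup.subset_closure ha.1.1) (Subgroup.subset_closure hx.1.1)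
      rcases h.co_eq (MemN.diff h s.iso ha hx).1 hp (ex.trans e.symm) with k | k <;> rw [k]
      exacts [hax, mul_mem hax hdH]
    · rcases (h.co_ker p hp).1 (e.trans hw) with k | k <;> rw [k]
      exacts [one_mem _, hdH]
  obtain ⟨i, hi⟩ := of_any1 (of_all1 iso_sum_check (h.co q))
  simp only [Bool.and_eq_true, Bool.or_eq_true, beq_iff_eq] at hi
  obtain ⟨p, hp, e⟩ := h.co_surj i
  have h1 : p ∈ H := lift i hi.1 p hp e
  have h2 : p⁻¹ * q ∈ H := lift _ hi.2 _ (mul_mem (inv_mem hp) hq)
    (by rw [h.co_mul _ (inv_mem hp) _ hq, h.co_inv hp, e, add_comm])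
  have := mul_mem h1 h2
  rwa [mul_inv_cancel_left] at this

/-- Two conjugates are conjugate by the group generated by the class. -/
theorem exists_conj_closure {a b : G} (ha : a ∈ Dc d) (hb : b ∈ Dc d) :
    ∃ g ∈ Subgroup.closure (Dc d), cj g a = b := by
  have step : ∀ {a b : G}, a ∈ Dc d → b ∈ Dc d → ¬ Commute a b →
      ∃ g ∈ Subgroup.closure (Dc d), cj g a = b := fun {a b} ha hb hab => by
    refine ⟨a * b, mul_mem (Subgroup.subset_closure ha) (Subgroup.subset_closure hb), ?_⟩
    rw [cj, mul_inv_rev, h.inv_self ha, h.inv_self hb]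
    calc a * b * a * (b * a) = a * b * a * b * a := by simp only [mul_assoc]
      _ = b * a * b * b * a := by rw [h.braid_om (h.mem_om ha) (h.mem_om hb) hab]
      _ = b := by simp [mul_assoc, ← mul_assoc b b, h.sq_one hb, h.sq_one ha]
  obtain ⟨hA⟩ := h.exists_at ha
  obtain ⟨hB⟩ := h.exists_at hb
  obtain ⟨c, hc, hcn⟩ : ∃ c ∈ Dc d, c ∉ insert a (insert b (nbr (Dc d) a ∪ nbr (Dc d) b)) := by
    refine Set.exists_mem_notMem_of_ncard_lt_ncard ?_ (Set.toFinite _)
    have e1 := hA.card_nbr
    have e2 := hB.card_nbr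
    rw [Dc_eq ha] at e1
    rw [Dc_eq hb] at e2
    refine lt_of_le_of_lt ((Set.ncard_insert_le _ _).trans (Nat.add_le_add_right ((Set.ncard_insert_le _ _).trans
      (Nat.add_le_add_right (Set.ncard_union_le _ _) _)) _)) ?_
    rw [e1, e2, h.dc_eq, h.card_om]
    norm_num
  simp only [Set.mem_insert_iff, Set.mem_union, not_or] at hcn
  obtain ⟨g1, hg1, e1⟩ := step ha hc fun k => hcn.2.2.1 ⟨hc, hcn.1, k⟩
  obtain ⟨g2, hg2, e2⟩ := step hc hb fun k => hcn.2.2.2 ⟨hc, hcn.2.1, k.symm⟩
  exact ⟨g2 * g1, mul_mem hg2 hg1, by rw [← cj_cj, e1, e2]⟩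

/-- The class inside the group it generates. -/
def DH (d : G) : Set (Subgroup.closure (Dc d)) := {x | (x : G) ∈ Dc d}

theorem classTwo_DH : ClassTwo (DH d) := by
  refine ⟨⟨⟨fun x hx => ?_, fun x hx y hy => ?_⟩, fun g x hx => isConj_cj (g : G) hx⟩,
    Subgroup.closure_closure_coe_preimage, fun a ha b hb => ?_, ?_⟩
  · rw [← Subgroup.orderOf_coe]
    obtain ⟨g, hg⟩ := isConj_iff.1 hx
    rw [← hg, ← MulAut.conj_apply, MulEquiv.orderOf_eq]
    exact h.ord
  · by_cases hc : Commute (x : G) y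
    · left
      refine Subtype.ext ?_
      simp only [Subgroup.coe_pow, Subgroup.coe_mul, OneMemClass.coe_one]
      rw [pow_two, mul_assoc, ← mul_assoc (y : G), hc.symm.eq, mul_assoc, h.sq_one hy, mul_one, h.sq_one hx]
    · right
      refine Subtype.ext ?_
      simp only [Subgroup.coe_pow, Subgroup.coe_mul, OneMemClass.coe_one]
      exact h.three_om (h.mem_om hx) (h.mem_om hy) hc
  · obtain ⟨g, hg, e⟩ := h.exists_conj_closure ha hb
    exact ⟨⟨g, hg⟩, Subtype.ext e⟩
  · obtain ⟨b, hb⟩ : (nbr (Dc d) d).Nonempty :=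
      Set.nonempty_of_ncard_ne_zero (by rw [h.card_nbr]; norm_num)
    exact ⟨⟨d, Subgroup.subset_closure h.d_mem⟩, h.d_mem, ⟨b, Subgroup.subset_closure hb.1⟩, hb.1,
      fun e => hb.2.1 (congrArg Subtype.val e).symm⟩

theorem exists_far : ∃ f, f ∈ far2 d :=
  Set.nonempty_of_ncard_ne_zero (by rw [h.card_far2]; norm_num)

theorem center_DH : Subgroup.center (Subgroup.closure (Dc d)) = ⊥ := by
  refine (Subgroup.eq_bot_iff_forall _).2 fun z hz => ?_
  have comm : ∀ {g : G}, g ∈ Subgroup.closure (Dc d) → Commute g z := fun {g} hg =>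
    congrArg Subtype.val (Subgroup.mem_center_iff.1 hz ⟨g, hg⟩)
  have hzd : Commute (z : G) d := (comm (Subgroup.subset_closure h.d_mem)).symm
  have hzQ : (z : G) ∈ h.Q := h.faithful _ hzd fun q hq => by rw [cj_eq_self.2 (comm (h.Q_le_closure hq)).symm]
  have h0 : h.co z = 0 := nondeg fun y => by
    obtain ⟨q, hq, rfl⟩ := h.co_surj y
    exact (h.comm _ hzQ q hq).1 (comm (h.Q_le_closure hq)).symm.eq
  rcases (h.co_ker _ hzQ).1 h0 with k | k
  · exact Subtype.ext k
  · exfalso
    obtain ⟨f, hf⟩ := h.exists_far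
    have := (comm (Subgroup.subset_closure hf.1)).symm
    rw [k] at this
    exact hf.2.1 this

theorem core_DH {p : ℕ} (hp : p = 2 ∨ p = 3) : Cfsg.pCore p (Subgroup.closure (Dc d)) = ⊥ := by
  classical
  have : Fact p.Prime := ⟨by rcases hp with rfl | rfl <;> norm_num⟩
  set H := Subgroup.closure (Dc d)
  set N := Cfsg.pCore p H
  have hN : IsPGroup p N := CfsgLib.PCore.pCore_isPGroup
  have hn : N.Normal := inferInstance
  let dH : H := ⟨d, Subgroup.subset_closure h.d_mem⟩
  -- the order of a member of the core is a power of the prime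
  have pord : ∀ {x : H} {m : ℕ}, x ∈ N → m.Prime → (x : G) ^ m = 1 → (x : G) ≠ 1 → m = p := by
    intro x m hx hm e hne
    obtain ⟨i, hi⟩ := IsPGroup.iff_orderOf.1 hN ⟨x, hx⟩
    have ho : orderOf (x : G) = m := by
      have : Fact m.Prime := ⟨hm⟩
      exact orderOf_eq_prime e hne
    rw [← Subgroup.orderOf_coe, ← Subgroup.orderOf_coe] at hi
    change orderOf (x : G) = p ^ i at hi
    rw [ho] at hi
    exact (Nat.prime_dvd_prime_iff_eq hm Fact.out).1 (hm.dvd_of_dvd_pow (dvd_of_eq hi))
  have hfix : ∀ n ∈ N, ∀ a ∈ DH d, n * a = a * n := by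
    -- it suffices to treat the involution
    suffices key : ∀ n ∈ N, Commute (n : G) d by
      intro n hn' a ha
      obtain ⟨g, hg, e⟩ := h.exists_conj_closure h.d_mem ha
      refine Subtype.ext ?_
      have := commute_cj (g := g) (key _ (hn.conj_mem n hn' (⟨g, hg⟩ : H)⁻¹))
      simp only [Subgroup.coe_mul, Subgroup.coe_inv] at this ⊢
      rw [e] at this
      simp [cj, mul_assoc] at this
      exact congrArg Subtype.val this.eq
    intro n hn'
    by_contra hne
    set x := cj (n : G) d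
    have hxD : x ∈ Dc d := isConj_cj _ h.d_mem
    have hxd : x ≠ d := fun e => hne (cj_eq_self.1 e)
    have hxH : x ∈ H := Subgroup.subset_closure hxD
    have hmem : dH * ⟨x, hxH⟩ ∈ N := by
      have := mul_mem (hn.conj_mem n hn' dH) (inv_mem hn')
      rw [show dH * n * dH⁻¹ * n⁻¹ = dH * (n * dH⁻¹ * n⁻¹) by group] at this
      convert this using 2
      refine Subtype.ext ?_
      simp only [Subgroup.coe_mul, Subgroup.coe_inv, dH, h.d_inv, x, cj]
    have hdx : d * x ≠ 1 := fun e => hxd (((eq_inv_of_mul_eq_one_left e).trans (h.inv_self hxD)).symm)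
    by_cases hc : Commute d x
    · have hp2 : 2 = p := pord hmem Nat.prime_two (by
        show (d * x) ^ 2 = 1
        rw [pow_two, mul_assoc, ← mul_assoc x d, hc.symm.eq, mul_assoc d x, h.sq_one hxD, mul_one, h.dd]) hdx
      have hxn : x ∈ nbr (Dc d) d := ⟨hxD, hxd, hc⟩
      obtain ⟨hX⟩ := h.exists_at hxD
      have eX : Dc x = Dc d := Dc_eq hxD
      obtain ⟨f, hf, hfd⟩ : ∃ f ∈ nbr (Dc x) x,
          f ∉ insert d (nbr (Dc x) x ∩ {w | w ≠ d ∧ Commute w d}) := by
        refine Set.exists_mem_notMem_of_ncard_lt_ncard ?_ (Set.toFinite _)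
        refine lt_of_le_of_lt (Set.ncard_insert_le _ _) ?_
        rw [hX.card_two (by rw [eX]; exact nbr_swap h.d_mem hxn), hX.card_nbr]
        norm_num
      simp only [Set.mem_insert_iff, Set.mem_inter_iff, hf, true_and, not_or] at hfd
      have hfd' : ¬ Commute d f := fun k => hfd.2 ⟨hfd.1, k.symm⟩
      rw [eX] at hf
      have hfH : f ∈ H := Subgroup.subset_closure hf.1
      have h3 := h.three_om (h.mem_om h.d_mem) (h.mem_om hf.1) hfd'
      have hm2 : dH * ⟨f, hfH⟩ ∈ N := by
        have := mul_mem hmem (hn.conj_mem _ hmem (dH * ⟨f, hfH⟩))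
        convert this using 1
        refine Subtype.ext ?_
        have hcx : Commute (d * f) x := hc.mul_left hf.2.2.symm
        have e1 : cj (d * f) d = f := by
          rw [cj, mul_inv_rev, h.d_inv, h.inv_self hf.1]
          calc d * f * d * (f * d) = d * f * d * f * d := by simp only [mul_assoc]
            _ = f * d * f * f * d := by rw [h.braid_om (h.mem_om h.d_mem) (h.mem_om hf.1) hfd']
            _ = f := by simp [mul_assoc, ← mul_assoc f f, h.sq_one hf.1, h.dd]
        show d * f = d * x * (cj (d * f) (d * x))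
        rw [cj_mul, e1, cj_eq_self.2 hcx, mul_assoc d x, ← mul_assoc x f, hf.2.2.eq, mul_assoc f x,
          h.sq_one hxD, mul_one]
      have h32 : 3 = p := pord hm2 Nat.prime_three h3
        (fun e => hfd' (by
          rw [(eq_inv_of_mul_eq_one_left (show d * f = 1 from e)).trans (h.inv_self hf.1)]))
      omega
    · have hx3 := h.three_om (h.mem_om h.d_mem) (h.mem_om hxD) hc
      have hp3 : 3 = p := pord hmem Nat.prime_three hx3 hdx
      obtain ⟨hX⟩ := h.exists_at hxD
      obtain ⟨b, hb, hbx⟩ : ∃ b ∈ nbr (Dc d) d, b ∉ insert x (nbr (Dc d) x) := by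
        by_contra hall
        simp only [not_exists, not_and, not_not] at hall
        have hsub : nbr (Dc d) d ⊆ nbr (Dc d) d ∩ nbr (Dc d) x := fun b hb => ⟨hb, by
          rcases hall b hb with k | k
          · exact absurd (k ▸ hb.2.2) hc
          · exact k⟩
        have hle := Set.ncard_le_ncard hsub (Set.toFinite _)
        obtain ⟨w, hw⟩ : (nbr (Dc d) d).Nonempty :=
          Set.nonempty_of_ncard_ne_zero (by rw [h.card_nbr]; norm_num)
        rw [(h.common_pts ⟨hxD, hc, w, hsub hw⟩).1, h.card_nbr] at hle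
        norm_num at hle
      simp only [Set.mem_insert_iff, not_or] at hbx
      have hbx' : ¬ Commute x b := fun k => hbx.2 ⟨hb.1, hbx.1, k⟩
      have hbH : b ∈ H := Subgroup.subset_closure hb.1
      have e1 : cj (x * b) x = b := by
        rw [cj, mul_inv_rev, h.inv_self hb.1, h.inv_self hxD]
        calc x * b * x * (b * x) = x * b * x * b * x := by simp only [mul_assoc]
          _ = b * x * b * b * x := by rw [h.braid_om (h.mem_om hxD) (h.mem_om hb.1) hbx']
          _ = b := by simp [mul_assoc, ← mul_assoc b b, h.sq_one hb.1, h.sq_one hxD]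
      have hm2 : dH * ⟨b, hbH⟩ ∈ N := by
        have := mul_mem (mul_mem hmem hmem) (hn.conj_mem _ hmem (⟨x, hxH⟩ * ⟨b, hbH⟩))
        convert this using 1
        refine Subtype.ext ?_
        show d * b = d * x * (d * x) * cj (x * b) (d * x)
        have e2 : cj (x * b) d = x * d * x := by
          rw [← cj_cj, cj_eq_self.2 hb.2.2.symm, cj, h.inv_self hxD]
        rw [cj_mul, e1, e2]
        simp [mul_assoc, ← mul_assoc x x, h.sq_one hxD, ← mul_assoc d d, h.dd]
      have h23 : 2 = p := pord hm2 Nat.prime_two (by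
          show (d * b) ^ 2 = 1
          rw [pow_two, mul_assoc, ← mul_assoc b d, hb.2.2.symm.eq, mul_assoc d b, h.sq_one hb.1, mul_one, h.dd])
        (fun e => hb.2.1 ((eq_inv_of_mul_eq_one_left (show d * b = 1 from e)).trans (h.inv_self hb.1)).symm)
      omega
  refine le_bot_iff.1 ((?_ : N ≤ Subgroup.center H).trans_eq h.center_DH)
  intro n hn'
  refine Subgroup.mem_center_iff.2 fun g => ?_
  have hgen : g ∈ Subgroup.closure (DH d) := by
    rw [h.classTwo_DH.gen]; exact Subgroup.mem_top g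
  have hle : Subgroup.closure (DH d) ≤ Subgroup.centralizer {n} := (Subgroup.closure_le _).2 fun a ha =>
    Subgroup.mem_centralizer_singleton_iff.2 (hfix n hn' a ha).symm
  exact Subgroup.mem_centralizer_singleton_iff.1 (hle hgen)

theorem setting_DH : Classif.Good (DH d) := by
  obtain ⟨b, hb⟩ : (nbr (Dc d) d).Nonempty :=
    Set.nonempty_of_ncard_ne_zero (by rw [h.card_nbr]; norm_num)
  let dH : Subgroup.closure (Dc d) := ⟨d, Subgroup.subset_closure h.d_mem⟩
  let bH : Subgroup.closure (Dc d) := ⟨b, Subgroup.subset_closure hb.1⟩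
  refine Semi.good ⟨h.classTwo_DH, h.center_DH, h.core_DH (Or.inl rfl), h.core_DH (Or.inr rfl),
    ⟨dH, h.d_mem, bH, hb.1, fun e => hb.2.1 (congrArg Subtype.val e).symm, Subtype.ext hb.2.2.eq⟩⟩ ?_
  have adj : ∀ {p q : Subgroup.closure (Dc d)} (hp : p ∈ DH d) (hq : q ∈ DH d),
      (q : G) ∈ nbr (Dc d) (p : G) →
      (Cfsg.commutingGraph (DH d)).Reachable ⟨p, hp⟩ ⟨q, hq⟩ := fun {p q} hp hq k =>
    SimpleGraph.Adj.reachable (G := Cfsg.commutingGraph (DH d))
      ⟨fun e => k.2.1 (congrArg (fun z : DH d => ((z : Subgroup.closure (Dc d)) : G)) e).symm,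
        Or.inl (Subtype.ext k.2.2.eq)⟩
  have hall : ∀ x : DH d, (Cfsg.commutingGraph (DH d)).Reachable ⟨dH, h.d_mem⟩ x := by
    rintro ⟨⟨x, hxH⟩, hx⟩
    rcases h.mem_om hx with e | k | ⟨-, -, a, ha, ha'⟩
    · obtain rfl : x = d := e
      exact SimpleGraph.Reachable.refl _
    · exact adj h.d_mem hx k
    · exact (adj h.d_mem (q := ⟨a, Subgroup.subset_closure ha.1⟩) ha.1 ha).trans (adj hx ha.1 ha').symm
  have : Nonempty (DH d) := ⟨⟨dH, h.d_mem⟩⟩
  exact ⟨fun x y => (hall x).symm.trans (hall y)⟩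

theorem isPGroup_Q : IsPGroup 2 h.Q := fun ⟨q, hq⟩ => ⟨2, Subtype.ext (by
  show q ^ 4 = 1
  rw [show 4 = 2 * 2 from rfl, pow_mul, pow_two, pow_two]
  rcases (h.co_ker _ (mul_mem hq hq)).1 (by rw [h.co_mul _ hq _ hq, W.add_self]) with k | k <;> rw [k]
  · rw [one_mul]
  · rw [h.dd])⟩

theorem core_noncentral {x : Subgroup.closure (Dc d)} (hx : (x : G) = d) :
    ¬ Cfsg.pCore 2 ↥(Subgroup.closure (nbr (DH d) x)) ≤
      Subgroup.center ↥(Subgroup.closure (nbr (DH d) x)) := by
  classical
  set K := Subgroup.closure (nbr (DH d) x)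
  have hKd : ∀ k : K, Commute ((k : Subgroup.closure (Dc d)) : G) d := fun k => by
    have hle : K ≤ Subgroup.centralizer {x} := (Subgroup.closure_le _).2 fun y hy =>
      Subgroup.mem_centralizer_singleton_iff.2 hy.2.2.symm.eq
    have := congrArg Subtype.val (Subgroup.mem_centralizer_singleton_iff.1 (hle k.2))
    simp [hx] at this
    exact this
  let N : Subgroup K := h.Q.comap ((Subgroup.closure (Dc d)).subtype.comp K.subtype)
  have hNn : N.Normal := ⟨fun n hn k => by
    show (((k * n * k⁻¹ : K) : Subgroup.closure (Dc d)) : G) ∈ h.Q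
    simp only [Subgroup.coe_mul, Subgroup.coe_inv]
    exact h.Q_norm _ (hKd k) _ hn⟩
  have hNp : IsPGroup 2 N := (h.isPGroup_Q).comap_of_injective _
    (fun a b e => Subtype.ext (Subtype.ext e))
  intro hle
  have hNc : N ≤ Subgroup.center K := (CfsgLib.PCore.le_pCore hNn hNp).trans hle
  obtain ⟨a, ha⟩ : (nbr (Dc d) d).Nonempty :=
    Set.nonempty_of_ncard_ne_zero (by rw [h.card_nbr]; norm_num)
  obtain ⟨s, hs⟩ := h.nbr_iff_pt.1 ha
  obtain ⟨y, hy, hy'⟩ := h.exists_diff hs (onLine_self s.1)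
  obtain ⟨t, ht⟩ : ∃ t : Pt, perp s.1 t.1 = false := by
    by_contra hn
    simp only [not_exists, Bool.not_eq_false] at hn
    have e := card_perp s
    rw [Finset.filter_true_of_mem fun t _ => perp_symm (hn t), Finset.card_univ, ← Nat.card_eq_fintype_card,
      card_pt] at e
    norm_num at e
  obtain ⟨m, hm⟩ := h.exists_mem t.iso
  have memK : ∀ {z : G} (hz : z ∈ nbr (Dc d) d),
      (⟨z, Subgroup.subset_closure hz.1⟩ : Subgroup.closure (Dc d)) ∈ K := fun {z} hz =>
    Subgroup.subset_closure ⟨hz.1, fun e => hz.2.1 ((congrArg Subtype.val e).trans hx),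
      Subtype.ext (by show (x : G) * z = z * x; rw [hx]; exact hz.2.2.eq)⟩
  have hyn : y ∈ nbr (Dc d) d := MemN.mem_nbr h s.iso hy
  have hmn : m ∈ nbr (Dc d) d := MemN.mem_nbr h t.iso hm
  let q : K := ⟨_, memK ha⟩ * ⟨_, memK hyn⟩
  have hqN : q ∈ N := (MemN.diff h s.iso hs hy).1
  have hcomm : Commute (a * y) m := by
    have := congrArg (fun z : K => ((z : Subgroup.closure (Dc d)) : G))
      (Subgroup.mem_center_iff.1 (hNc hqN) ⟨_, memK hmn⟩)
    exact this.symm
  have e := h.act_co hm.1.2.1 (MemN.diff h s.iso hs hy).1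
  rw [cj_eq_self.2 hcomm.symm, hy', hm.1.2.2, eq_comm, tv_fix t.ne_zero, ht] at e
  exact Bool.noConfusion e

theorem kind_DH : KindPSU (DH d) 6 := by
  have hG := h.setting_DH
  let dH : Subgroup.closure (Dc d) := ⟨d, Subgroup.subset_closure h.d_mem⟩
  have hcard : (DH d).ncard = 693 := by
    rw [← h.card_om, ← h.dc_eq, ← Set.ncard_image_of_injective (DH d) (Subgroup.subtype_injective _)]
    congr 1
    ext y
    exact ⟨fun ⟨z, hz, e⟩ => e ▸ hz, fun hy => ⟨⟨y, Subgroup.subset_closure hy⟩, hy, rfl⟩⟩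
  rcases PolarTwins.main hG.set hG.triv (x := dH) h.d_mem (h.core_noncentral rfl) with ⟨m, -, hK⟩ | ⟨n, hn, hK⟩
  · exfalso
    obtain ⟨ψ, hψ⟩ := KindPts.sp_points hK
    have e := hψ.bij.ncard_eq
    rw [hcard] at e
    have hc : {z : Fin m ⊕ Fin m → ZMod 2 | z ≠ 0}.ncard + 1 = 2 ^ (m + m) := by
      have h1 : {z : Fin m ⊕ Fin m → ZMod 2 | z ≠ 0} = {0}ᶜ := rfl
      have h2 : Nat.card (Fin m ⊕ Fin m → ZMod 2) = 2 ^ (m + m) := by
        rw [Nat.card_fun, Nat.card_sum, Nat.card_fin, Nat.card_eq_fintype_card, ZMod.card]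
      rw [h1, Set.ncard_compl, Set.ncard_singleton, h2]
      have : 0 < 2 ^ (m + m) := Nat.two_pow_pos _
      omega
    rw [← e] at hc
    rcases Nat.lt_or_ge m 5 with hm | hm
    · interval_cases m <;> norm_num at hc
    · have := Nat.pow_le_pow_right (show 0 < 2 by norm_num) (show 10 ≤ m + m by omega)
      norm_num at this
      omega
  · obtain ⟨F, _, _, ψ, hψ⟩ := psu_points hn hK
    have e := hψ.card_points (k := n - 1) (by rw [Module.finrank_fin_fun]; omega)
    rw [hcard, show n - 1 + 1 = n by omega] at e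
    rcases Nat.lt_or_ge n 8 with h8 | h8
    · interval_cases n
      · norm_num [Nat.even_iff] at e
      · norm_num [Nat.even_iff] at e
      · exact hK
      · norm_num [Nat.even_iff] at e
    · exfalso
      have h1 : 2 ^ 8 ≤ 2 ^ n := Nat.pow_le_pow_right (by norm_num) h8
      have h2 : 2 ^ 7 ≤ 2 ^ (n - 1) := Nat.pow_le_pow_right (by norm_num) (by omega)
      split_ifs at e
      · have := Nat.mul_le_mul (show 257 ≤ 2 ^ n + 1 by norm_num at h1; omega)
          (show 127 ≤ 2 ^ (n - 1) - 1 by norm_num at h2; omega)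
        omega
      · have := Nat.mul_le_mul (show 255 ≤ 2 ^ n - 1 by norm_num at h1; omega)
          (show 129 ≤ 2 ^ (n - 1) + 1 by norm_num at h2; omega)
        omega

theorem closure_eq_top : Subgroup.closure (Dc d) = ⊤ := by
  classical
  obtain ⟨F, _, _, hF, e, -⟩ := h.kind_DH
  have hH : Nat.card (Subgroup.closure (Dc d)) = 9196830720 := by
    rw [Nat.card_congr e.toEquiv, Tower.card_psu_six (by rw [hF]; norm_num)]
  have hto : ∀ x : Dc d, ∃ g : G, cj g d = x.1 := fun x => isConj_iff.1 x.2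
  choose r hr using hto
  let f : G → Dc d × Subgroup.centralizer ({d} : Set G) := fun g =>
    (⟨cj g d, isConj_cj g h.d_mem⟩, ⟨(r ⟨cj g d, isConj_cj g h.d_mem⟩)⁻¹ * g,
      Subgroup.mem_centralizer_singleton_iff.2 (cj_eq_self.1 (by
        have hk : cj (r ⟨cj g d, isConj_cj g h.d_mem⟩) d = cj g d := hr _
        rw [← cj_cj]
        conv_lhs => arg 2; rw [← hk]
        rw [cj_cj, inv_mul_cancel, cj_one])).eq⟩)
  have hf : Function.Injective f := fun g k e' => by
    obtain ⟨e1, e2⟩ := Prod.ext_iff.1 e'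
    have e2' := congrArg Subtype.val e2
    simp only [f] at e1 e2'
    rw [e1] at e2'
    exact mul_left_cancel e2'
  have hle := Nat.card_le_card_of_injective f hf
  rw [Nat.card_prod, Nat.card_coe_set_eq, h.dc_eq, h.card_om] at hle
  refine Subgroup.eq_top_of_le_card _ ?_
  rw [hH]
  refine hle.trans ((Nat.mul_le_mul_left 693 h.card_le).trans ?_)
  norm_num

/-- The group is the six-dimensional unitary group with the class that of the transvections. -/
theorem kind : KindPSU (Dc d) 6 := by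
  obtain ⟨F, _, _, hF, e, he⟩ := h.kind_DH
  let t : Subgroup.closure (Dc d) ≃* G := (MulEquiv.subgroupCongr h.closure_eq_top).trans Subgroup.topEquiv
  refine ⟨F, inferInstance, inferInstance, hF, t.symm.trans e, ?_⟩
  rw [← he]
  ext y
  constructor
  · rintro ⟨x, hx, rfl⟩
    exact ⟨t.symm x, by
      show ((t.symm x : Subgroup.closure (Dc d)) : G) ∈ Dc d
      have : ((t.symm x : Subgroup.closure (Dc d)) : G) = x := rfl
      rw [this]; exact hx, rfl⟩
  · rintro ⟨x, hx, rfl⟩
    refine ⟨(x : G), hx, ?_⟩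
    show e (t.symm (x : G)) = e x
    exact congrArg e (Subtype.ext rfl)

/-- The group is the six-dimensional projective special unitary group. -/
theorem recognise : ∃ (F : Type) (_ : Field F) (_ : Fintype F), Fintype.card F = 4 ∧
    Nonempty (G ≃* Cfsg.PSU 6 F 2) := by
  obtain ⟨F, iF, iT, hF, e, -⟩ := h.kind
  exact ⟨F, iF, iT, hF, ⟨e⟩⟩

end Hyp

end CfsgLib.ThreeTrans.UCent
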